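import Groth.Agent.H98.GrStar.GrLES3

set_option autoImplicit false
universe u

/-!
# Graded resolutions by `Γ_a`-acyclic graded modules compute graded local cohomology

`GrAcycRes 𝒜 ℳ a`: an exact sequence `0 → M → X 0 → X 1 → ⋯` of graded modules and homogeneous maps
with every `X n` acyclic for `Γ_a` (no *injectivity asked).  Main result `GrAcycRes.exists_equiv`:
its cohomology `H^i(Γ_a(X^•))` is isomorphic to `F.H a i` for every *injective resolution `F` of `M`,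
by an isomorphism that matches the homogeneous pieces.
-/

namespace Groth.Agent.H98.Ver

open DirectSum CategoryTheory Groth.Agent.H98.LCRes Groth.Agent.H98.GrStar

variable {ι : Type} [AddCommGroup ι] [DecidableEq ι]
variable {R : Type u} [CommRing R]
  {σ : Type u} [SetLike σ R] [AddSubgroupClass σ R]

/-- a graded resolution by `Γ_a`-acyclic graded modules -/
structure GrAcycRes (𝒜 : ι → σ) [GradedRing 𝒜] {M : Type u} [AddCommGroup M] [Module R M]
    (ℳ : ι → AddSubgroup M) [DirectSum.Decomposition ℳ] [SetLike.GradedSMul 𝒜 ℳ]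
    (a : HomogeneousIdeal 𝒜) : Type (u + 1) where
  X : ℕ → GrLC.GMod.{u} 𝒜
  d : ∀ n : ℕ, (X n).carrier →ₗ[R] (X (n + 1)).carrier
  ε : M →ₗ[R] (X 0).carrier
  d_grHom : ∀ n : ℕ, GrLC.IsGrHom (X n).gr (X (n + 1)).gr (d n)
  ε_grHom : GrLC.IsGrHom ℳ (X 0).gr ε
  ε_injective : Function.Injective ε
  exact_zero : LinearMap.ker (d 0) = LinearMap.range ε
  exact_succ : ∀ n : ℕ, LinearMap.ker (d (n + 1)) = LinearMap.range (d n)
  acyclic : ∀ n j : ℕ, Subsingleton (LocCoh.H a.toIdeal (j + 1) (X n).carrier)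

namespace GrAcycRes

variable {𝒜 : ι → σ} [GradedRing 𝒜]
variable {M : Type u} [AddCommGroup M] [Module R M] {ℳ : ι → AddSubgroup M}
  [DirectSum.Decomposition ℳ] [SetLike.GradedSMul 𝒜 ℳ]
variable {N : Type u} [AddCommGroup N] [Module R N] {𝒩 : ι → AddSubgroup N}
  [DirectSum.Decomposition 𝒩] [SetLike.GradedSMul 𝒜 𝒩]
variable {a : HomogeneousIdeal 𝒜} (V : GrAcycRes 𝒜 ℳ a)

/-- the underlying ungraded acyclic resolution -/
@[reducible] def toAcycRes : AcycRes a.toIdeal M where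
  X n := (V.X n).carrier
  d := V.d
  ε := V.ε
  ε_injective := V.ε_injective
  exact_zero := V.exact_zero
  exact_succ := V.exact_succ
  acyclic := V.acyclic

/-- cohomology of `Γ_a(X^•)` -/
abbrev H (i : ℕ) : Type u := V.toAcycRes.H i

/-- the homogeneous pieces of the cohomology -/
def Hgr (i : ℕ) (g : ι) : AddSubgroup (V.H i) where
  carrier := {x | ∃ z : ↥(V.toAcycRes.cocyc i), z.1 ∈ (V.X i).gr g ∧
    V.toAcycRes.toH i z = x}
  zero_mem' := ⟨0, zero_mem _, map_zero _⟩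
  add_mem' := by
    rintro x y ⟨z, hz, rfl⟩ ⟨w, hw, rfl⟩
    exact ⟨z + w, add_mem hz hw, map_add _ _ _⟩
  neg_mem' := by
    rintro x ⟨z, hz, rfl⟩
    exact ⟨-z, neg_mem hz, map_neg _ _⟩

theorem cocyc_isHomogeneous (i : ℕ) : (V.toAcycRes.cocyc i).IsHomogeneous (V.X i).gr :=
  inf_isHomogeneous (V.X i).gr _ _ (gam_isHomogeneous 𝒜 (V.X i).gr a)
    (ker_isHomogeneous (V.X i).gr (V.X (i + 1)).gr (V.d i) (V.d_grHom i))

theorem cobdy_isHomogeneous (i : ℕ) : (V.toAcycRes.cobdy i).IsHomogeneous (V.X i).gr := by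
  cases i with
  | zero => exact bot_isHomogeneous (V.X 0).gr
  | succ n =>
    exact map_isHomogeneous (V.X n).gr (V.X (n + 1)).gr (V.d n) (V.d_grHom n) _
      (gam_isHomogeneous 𝒜 (V.X n).gr a)

theorem Hgr_isInternal (i : ℕ) : DirectSum.IsInternal (V.Hgr i) := by
  have hrange : (LinearMap.range (V.toAcycRes.cocyc i).subtype).IsHomogeneous (V.X i).gr := by
    rw [Submodule.range_subtype]
    exact V.cocyc_isHomogeneous i
  have hint := preGr_isInternal (V.X i).gr (V.toAcycRes.cocyc i).subtype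
    (Submodule.injective_subtype _) hrange
  let _ : DirectSum.Decomposition (preGr (V.X i).gr (V.toAcycRes.cocyc i).subtype) :=
    hint.chooseDecomposition
  have hgr : GrLC.IsGrHom (preGr (V.X i).gr (V.toAcycRes.cocyc i).subtype) (V.X i).gr
      (V.toAcycRes.cocyc i).subtype := fun _ _ h => h
  have hB : ((V.toAcycRes.cobdy i).comap (V.toAcycRes.cocyc i).subtype).IsHomogeneous
      (preGr (V.X i).gr (V.toAcycRes.cocyc i).subtype) :=
    comap_isHomogeneous _ (V.X i).gr (V.toAcycRes.cocyc i).subtype hgr _ (V.cobdy_isHomogeneous i)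
  have hker : (LinearMap.ker (V.toAcycRes.toH i)).IsHomogeneous
      (preGr (V.X i).gr (V.toAcycRes.cocyc i).subtype) := by
    rw [Submodule.ker_mkQ]
    exact hB
  have := imGr_isInternal (preGr (V.X i).gr (V.toAcycRes.cocyc i).subtype) (V.toAcycRes.toH i)
    (Submodule.mkQ_surjective _) hker
  have heq : V.Hgr i = imGr (preGr (V.X i).gr (V.toAcycRes.cocyc i).subtype)
      (V.toAcycRes.toH i) := by
    funext g
    ext x
    constructor
    · rintro ⟨z, hz, rfl⟩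
      exact ⟨z, hz, rfl⟩
    · rintro ⟨z, hz, rfl⟩
      exact ⟨z, hz, rfl⟩
  rw [heq]
  exact this

/-! ### lifting to a *injective resolution -/

/-- the invariant of the lifting recursion -/
def LiftInv (F : GrLC.StarInjRes 𝒜 𝒩) (n : ℕ)
    (φ : (V.X n).carrier →ₗ[R] (F.X n).carrier) : Prop :=
  GrLC.IsGrHom (V.X n).gr (F.X n).gr φ ∧ LinearMap.ker (V.d n) ≤ LinearMap.ker (F.d n ∘ₗ φ)

theorem exists_lift_zero (F : GrLC.StarInjRes 𝒜 𝒩) (f : M →ₗ[R] N)
    (hf : GrLC.IsGrHom ℳ 𝒩 f) :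
    ∃ φ : (V.X 0).carrier →ₗ[R] (F.X 0).carrier, V.LiftInv F 0 φ ∧
      ∀ m, φ (V.ε m) = F.ε (f m) := by
  obtain ⟨φ, hφ, hφε⟩ := exists_ext_of_ker_le 𝒜 (F.X 0).gr (F.starInj 0) (GrLC.GMod.of 𝒜 M ℳ) (V.X 0)
    V.ε V.ε_grHom (F.ε ∘ₗ f) (fun i m hm => F.ε_grHom i _ (hf i m hm)) (by
      intro x hx
      have hx0 : V.ε x = 0 := hx
      have hx1 : x = 0 := V.ε_injective (hx0.trans (map_zero V.ε).symm)
      rw [hx1]
      exact Submodule.zero_mem _)
  have hcomm : ∀ m, φ (V.ε m) = F.ε (f m) := fun m => LinearMap.congr_fun hφε m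
  refine ⟨φ, ⟨hφ, ?_⟩, hcomm⟩
  rw [V.exact_zero]
  rintro _ ⟨m, rfl⟩
  change F.d 0 (φ (V.ε m)) = 0
  rw [hcomm, StarInjRes.d_comp_ε]

theorem exists_lift_succ (F : GrLC.StarInjRes 𝒜 𝒩) (n : ℕ)
    (φ : (V.X n).carrier →ₗ[R] (F.X n).carrier) (hφ : V.LiftInv F n φ) :
    ∃ ψ : (V.X (n + 1)).carrier →ₗ[R] (F.X (n + 1)).carrier,
      V.LiftInv F (n + 1) ψ ∧ ∀ x, ψ (V.d n x) = F.d n (φ x) := by
  obtain ⟨ψ, hψ, hψd⟩ := exists_ext_of_ker_le 𝒜 (F.X (n + 1)).gr (F.starInj (n + 1)) (V.X n)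
    (V.X (n + 1)) (V.d n) (V.d_grHom n) (F.d n ∘ₗ φ)
    (fun i x hx => F.d_grHom n i _ (hφ.1 i x hx)) hφ.2
  have hcomm : ∀ x, ψ (V.d n x) = F.d n (φ x) := fun x => LinearMap.congr_fun hψd x
  refine ⟨ψ, ⟨hψ, ?_⟩, hcomm⟩
  rw [V.exact_succ n]
  rintro _ ⟨x, rfl⟩
  change F.d (n + 1) (ψ (V.d n x)) = 0
  rw [hcomm, StarInjRes.d_comp_d]

/-- the sequence of lifts -/
noncomputable def liftSeq (F : GrLC.StarInjRes 𝒜 𝒩) (f : M →ₗ[R] N)
    (hf : GrLC.IsGrHom ℳ 𝒩 f) :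
    ∀ n : ℕ, {φ : (V.X n).carrier →ₗ[R] (F.X n).carrier // V.LiftInv F n φ}
  | 0 => ⟨(V.exists_lift_zero F f hf).choose, (V.exists_lift_zero F f hf).choose_spec.1⟩
  | n + 1 => ⟨(V.exists_lift_succ F n (liftSeq F f hf n).1 (liftSeq F f hf n).2).choose,
      (V.exists_lift_succ F n (liftSeq F f hf n).1 (liftSeq F f hf n).2).choose_spec.1⟩

/-- a homogeneous map lifts to a homogeneous map from a graded resolution to a *injective one -/
theorem exists_lift (F : GrLC.StarInjRes 𝒜 𝒩) (f : M →ₗ[R] N)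
    (hf : GrLC.IsGrHom ℳ 𝒩 f) :
    ∃ φ : ∀ n, (V.X n).carrier →ₗ[R] (F.X n).carrier,
      (∀ n, GrLC.IsGrHom (V.X n).gr (F.X n).gr (φ n)) ∧ (∀ m, φ 0 (V.ε m) = F.ε (f m)) ∧
        ∀ n x, φ (n + 1) (V.d n x) = F.d n (φ n x) :=
  ⟨fun n => (V.liftSeq F f hf n).1, fun n => (V.liftSeq F f hf n).2.1,
    (V.exists_lift_zero F f hf).choose_spec.2,
    fun n => (V.exists_lift_succ F n (V.liftSeq F f hf n).1 (V.liftSeq F f hf n).2).choose_spec.2⟩

/-! ### comparison -/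

variable [IsNoetherianRing R]

/-- **Comparison**: the cohomology of a graded acyclic resolution is the graded local cohomology
computed from any *injective resolution, compatibly with the homogeneous pieces. -/
theorem exists_equiv (F : GrLC.StarInjRes 𝒜 ℳ) (i : ℕ) :
    ∃ e : V.H i ≃ₗ[R] F.H a i, ∀ (g : ι) (x : V.H i), x ∈ V.Hgr i g ↔ e x ∈ F.Hgr a i g := by
  obtain ⟨φ, hφ, h0, hd⟩ := V.exists_lift F LinearMap.id (fun _ _ h => h)
  let h : AcycRes.Hom V.toAcycRes (GrStar.toAcycRes F a) LinearMap.id :=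
    { φ := φ, comm_ε := h0, comm := hd }
  have hnat : ∀ x : V.H i, (GrStar.toAcycRes F a).equiv i (h.mapH i x) = V.toAcycRes.equiv i x := by
    intro x
    rw [h.naturality i x]
    have : ModuleCat.ofHom (LinearMap.id : M →ₗ[R] M) = 𝟙 (ModuleCat.of R M) := rfl
    rw [this, CategoryTheory.Functor.map_id]
    rfl
  have hbij : Function.Bijective (h.mapH i) := by
    constructor
    · intro x y hxy
      apply (V.toAcycRes.equiv i).injective
      rw [← hnat x, ← hnat y, hxy]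
    · intro y
      refine ⟨(V.toAcycRes.equiv i).symm ((GrStar.toAcycRes F a).equiv i y), ?_⟩
      apply ((GrStar.toAcycRes F a).equiv i).injective
      rw [hnat, LinearEquiv.apply_symm_apply]
  let e0 : V.H i ≃ₗ[R] (GrStar.toAcycRes F a).H i := LinearEquiv.ofBijective (h.mapH i) hbij
  have hH : (GrStar.toAcycRes F a).H i = F.H a i := toAcycRes_H F a i
  have hfwd : ∀ (g : ι) (x : V.H i), x ∈ V.Hgr i g → h.mapH i x ∈ F.Hgr a i g := by
    rintro g x ⟨z, hz, rfl⟩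
    cases i with
    | zero => exact ⟨h.mapCocyc 0 z, hφ 0 g _ hz, rfl⟩
    | succ k => exact ⟨h.mapCocyc (k + 1) z, hφ (k + 1) g _ hz, rfl⟩
  let e : V.H i ≃ₗ[R] F.H a i := e0
  have hgr : GrLC.IsGrHom (V.Hgr i) (F.Hgr a i) e.toLinearMap := fun g x hx => hfwd g x hx
  refine ⟨e, fun g x => ⟨fun hx => hfwd g x hx, fun hx => ?_⟩⟩
  obtain ⟨y, hy, hyx⟩ := exists_homog_preimage (V.Hgr i) (F.Hgr a i) (V.Hgr_isInternal i)
    (GrStar.Hgr_isInternal 𝒜 ℳ F a i) e.toLinearMap hgr hx x rfl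
  have : y = x := e.injective hyx
  rw [← this]
  exact hy

end GrAcycRes

end Groth.Agent.H98.Ver
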