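import Groth.Agent.H98.Ver.Acyc
import Groth.Agent.H98.Ver.GrRes

set_option autoImplicit false
set_option linter.unusedSectionVars false
set_option linter.style.haveILetI false
universe u

/-!
# The Veronese of a *injective resolution is a graded acyclic resolution of the Veronese module
-/

namespace Groth.Agent.H98.Ver

open DirectSum CategoryTheory Groth.Agent.H98.GrStar

variable {R : Type u} [CommRing R] {𝒜 : ℤ → AddSubgroup R} [GradedRing 𝒜]
variable {R' : Type u} [CommRing R'] {𝒜' : ℤ → AddSubgroup R'} [GradedRing 𝒜']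
variable {φ : R' →+* R} {q : ℕ} (hv : IsVer 𝒜 𝒜' φ q)

section Map

variable {X : Type u} [AddCommGroup X] [Module R X] (𝒳 : ℤ → AddSubgroup X)
  [DirectSum.Decomposition 𝒳] [SetLike.GradedSMul 𝒜 𝒳]
variable {Y : Type u} [AddCommGroup Y] [Module R Y] (𝒴 : ℤ → AddSubgroup Y)
  [DirectSum.Decomposition 𝒴] [SetLike.GradedSMul 𝒜 𝒴]

/-- the Veronese of a homogeneous map -/
def verMap (f : X →ₗ[R] Y) (hf : GrLC.IsGrHom 𝒳 𝒴 f) : ↥(verSub hv 𝒳) →ₗ[R'] ↥(verSub hv 𝒴) where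
  toFun y := ⟨f (y : X), by
    change verP q 𝒴 (f (y : X)) = f (y : X)
    rw [verP_grHom 𝒳 𝒴 f hf, y.2]⟩
  map_add' a b := Subtype.ext (by
    change f ((a : X) + (b : X)) = f a + f b
    rw [map_add])
  map_smul' c a := Subtype.ext (by
    change f (φ c • (a : X)) = φ c • f a
    rw [map_smul])

theorem verMap_coe (f : X →ₗ[R] Y) (hf : GrLC.IsGrHom 𝒳 𝒴 f) (y : ↥(verSub hv 𝒳)) :
    ((verMap hv 𝒳 𝒴 f hf y : ↥(verSub hv 𝒴)) : Y) = f (y : X) := rfl

theorem verMap_isGrHom (f : X →ₗ[R] Y) (hf : GrLC.IsGrHom 𝒳 𝒴 f) :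
    GrLC.IsGrHom (verGr hv 𝒳) (verGr hv 𝒴) (verMap hv 𝒳 𝒴 f hf) :=
  fun j y hy => hf (j * q) (y : X) hy

end Map

section Aug

variable {M : Type u} [AddCommGroup M] [Module R M] (ℳ : ℤ → AddSubgroup M)
  [DirectSum.Decomposition ℳ] [SetLike.GradedSMul 𝒜 ℳ]
variable {M' : Type u} [AddCommGroup M'] [Module R' M'] (ℳ' : ℤ → AddSubgroup M')
  [DirectSum.Decomposition ℳ'] [SetLike.GradedSMul 𝒜' ℳ']
variable (g : M' →ₛₗ[φ] M) (hgdeg : ∀ j : ℤ, (ℳ' j).map (g : M' →+ M) = ℳ (j * q))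
include hgdeg

theorem g_mem {j : ℤ} {x : M'} (hx : x ∈ ℳ' j) : g x ∈ ℳ (j * q) := by
  rw [← hgdeg j]
  exact ⟨x, hx, rfl⟩

theorem exists_g_of_mem {j : ℤ} {y : M} (hy : y ∈ ℳ (j * q)) : ∃ x ∈ ℳ' j, g x = y := by
  rw [← hgdeg j] at hy
  obtain ⟨x, hx, h⟩ := hy
  exact ⟨x, hx, h⟩

theorem verP_g (x : M') : verP q ℳ (g x) = g x := by
  induction x using DirectSum.Decomposition.inductionOn ℳ' with
  | zero => rw [map_zero, map_zero]
  | homogeneous x => exact verP_of_mem_dvd q ℳ (g_mem ℳ ℳ' g hgdeg x.2) (dvd_mul_left _ _)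
  | add a b ha hb => rw [map_add, map_add, ha, hb]

theorem exists_g_eq_of_verP_eq (y : M) (hy : verP q ℳ y = y) : ∃ x : M', g x = y := by
  classical
  have hmem : ∀ l : ℤ, (DirectSum.decompose ℳ y l : M) ∈ (g : M' →+ M).range := by
    intro l
    by_cases hl : (q : ℤ) ∣ l
    · obtain ⟨j, rfl⟩ := hl
      have h1 : (DirectSum.decompose ℳ y ((q : ℤ) * j) : M) ∈ ℳ (j * q) := by
        rw [mul_comm j]
        exact SetLike.coe_mem _
      obtain ⟨x, _, hx⟩ := exists_g_of_mem ℳ ℳ' g hgdeg h1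
      exact ⟨x, hx⟩
    · rw [(verP_eq_self_iff q ℳ y).1 hy l hl]
      exact zero_mem _
  have : y ∈ (g : M' →+ M).range := by
    rw [← DirectSum.sum_support_decompose ℳ y]
    exact sum_mem (fun l _ => hmem l)
  obtain ⟨x, hx⟩ := this
  exact ⟨x, hx⟩

end Aug

section Res

variable {M : Type u} [AddCommGroup M] [Module R M] {ℳ : ℤ → AddSubgroup M}
  [DirectSum.Decomposition ℳ] [SetLike.GradedSMul 𝒜 ℳ]
variable {M' : Type u} [AddCommGroup M'] [Module R' M'] {ℳ' : ℤ → AddSubgroup M'}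
  [DirectSum.Decomposition ℳ'] [SetLike.GradedSMul 𝒜' ℳ']
variable (g : M' →ₛₗ[φ] M) (hg : Function.Injective g)
  (hgdeg : ∀ j : ℤ, (ℳ' j).map (g : M' →+ M) = ℳ (j * q))
variable (E : GrLC.StarInjRes 𝒜 ℳ)

/-- the augmentation `M' → ver (E.X 0)` -/
def verε : M' →ₗ[R'] ↥(verSub hv (E.X 0).gr) where
  toFun x := ⟨E.ε (g x), by
    change verP q (E.X 0).gr (E.ε (g x)) = E.ε (g x)
    rw [verP_grHom ℳ (E.X 0).gr E.ε E.ε_grHom, verP_g ℳ ℳ' g hgdeg]⟩
  map_add' a b := Subtype.ext (by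
    change E.ε (g (a + b)) = E.ε (g a) + E.ε (g b)
    rw [map_add, map_add])
  map_smul' c a := Subtype.ext (by
    change E.ε (g (c • a)) = φ c • E.ε (g a)
    rw [map_smulₛₗ, map_smul])

theorem d_comp_d (n : ℕ) (x : (E.X n).carrier) : E.d (n + 1) (E.d n x) = 0 := by
  have : E.d n x ∈ LinearMap.ker (E.d (n + 1)) := by
    rw [E.exact_succ n]; exact ⟨x, rfl⟩
  exact this

theorem d_comp_ε (x : M) : E.d 0 (E.ε x) = 0 := by
  have : E.ε x ∈ LinearMap.ker (E.d 0) := by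
    rw [E.exact_zero]; exact ⟨x, rfl⟩
  exact this

/-- the Veronese of a *injective resolution of `M`, a graded `Γ_{a'}`-acyclic resolution of `M'` -/
noncomputable def verRes [IsNoetherianRing R] [IsNoetherianRing R'] (a' : HomogeneousIdeal 𝒜') :
    GrAcycRes 𝒜' ℳ' a' where
  X n := verGMod hv (E.X n)
  d n := verMap hv (E.X n).gr (E.X (n + 1)).gr (E.d n) (E.d_grHom n)
  ε := verε hv g hgdeg E
  d_grHom n := verMap_isGrHom hv (E.X n).gr (E.X (n + 1)).gr (E.d n) (E.d_grHom n)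
  ε_grHom := fun j x hx => E.ε_grHom (j * q) (g x) (g_mem ℳ ℳ' g hgdeg hx)
  ε_injective := fun x y hxy => hg (E.ε_injective (congrArg Subtype.val hxy))
  exact_zero := by
    ext y
    revert y
    intro (y : ↥(verSub hv (E.X 0).gr))
    constructor
    · intro hy
      have h1 : E.d 0 (y : (E.X 0).carrier) = 0 := congrArg Subtype.val hy
      have h2 : (y : (E.X 0).carrier) ∈ LinearMap.range E.ε := by
        rw [← E.exact_zero]; exact h1
      obtain ⟨m₀, hm₀⟩ := h2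
      have h3 : verP q ℳ m₀ = m₀ := by
        apply E.ε_injective
        rw [← verP_grHom ℳ (E.X 0).gr E.ε E.ε_grHom, hm₀]
        exact y.2
      obtain ⟨x, hx⟩ := exists_g_eq_of_verP_eq ℳ ℳ' g hgdeg m₀ h3
      refine ⟨x, Subtype.ext ?_⟩
      change E.ε (g x) = y
      rw [hx, hm₀]
    · rintro ⟨x, rfl⟩
      apply Subtype.ext
      change E.d 0 (E.ε (g x)) = 0
      exact d_comp_ε E (g x)
  exact_succ n := by
    ext y
    revert y
    intro (y : ↥(verSub hv (E.X (n + 1)).gr))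
    constructor
    · intro hy
      have h1 : E.d (n + 1) (y : (E.X (n + 1)).carrier) = 0 := congrArg Subtype.val hy
      have h2 : (y : (E.X (n + 1)).carrier) ∈ LinearMap.range (E.d n) := by
        rw [← E.exact_succ n]; exact h1
      obtain ⟨z, hz⟩ := h2
      refine ⟨⟨verP q (E.X n).gr z, verP_mem_verSub hv (E.X n).gr z⟩, Subtype.ext ?_⟩
      change E.d n (verP q (E.X n).gr z) = y
      rw [← verP_grHom (E.X n).gr (E.X (n + 1)).gr (E.d n) (E.d_grHom n), hz]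
      exact y.2
    · rintro ⟨(x : ↥(verSub hv (E.X n).gr)), rfl⟩
      apply Subtype.ext
      change E.d (n + 1) (E.d n (x : (E.X n).carrier)) = 0
      exact d_comp_d E n _
  acyclic n j := locCoh_subsingleton_ver hv (E.X n).gr (E.starInj n) a' j

end Res

end Groth.Agent.H98.Ver
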