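import Groth.Agent.H98.Canon.BassVanish
import Groth.Agent.H98.Canon.GorBwd

set_option autoImplicit false
set_option linter.unusedSectionVars false
set_option linter.style.haveILetI false
set_option linter.unusedVariables false
universe u

/-!
# A Gorenstein criterion for ℤ-graded *local rings without a Cohen–Macaulay hypothesis

If `*H^j_m(R) = 0` for `j ≠ n` and `*H^n_m(R)` is a shifted *injective module, then `R` is
Gorenstein.
-/

namespace Groth.Agent.H98.Ver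

open Groth.Agent.H98.GrStar Groth.Agent.H98.Bass0 Groth.Agent.H98.Canon DirectSum

variable {R : Type u} [CommRing R] [IsNoetherianRing R] (𝒜 : ℤ → AddSubgroup R) [GradedRing 𝒜]
  {m : HomogeneousIdeal 𝒜}
variable {M : Type u} [AddCommGroup M] [Module R M] {ℳ : ℤ → AddSubgroup M}
  [DirectSum.Decomposition ℳ] [SetLike.GradedSMul 𝒜 ℳ]

/-- in a minimal *injective resolution, `Γ_m(X^j) = 0` as long as `*H^i_m` vanishes for `i ≤ j` -/
theorem gam_eq_bot_of_H_subsingleton (X : GrLC.StarInjRes 𝒜 ℳ) (hE : IsMinimal X) (n : ℕ)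
    (h : ∀ j, j < n → Subsingleton (X.H m j)) :
    ∀ j, j < n → GrLC.gam m.toIdeal (X.X j).carrier = ⊥ := by
  intro j
  induction j with
  | zero =>
    intro h0
    by_contra hne
    have h1 := hE.zero _ (gam_isHomogeneous 𝒜 (X.X 0).gr m) hne
    obtain ⟨y, hy, hy0⟩ := Submodule.exists_mem_ne_zero_of_ne_bot h1
    have hyc : y ∈ X.cocyc m 0 := by
      refine ⟨hy.1, ?_⟩
      rw [X.exact_zero]
      exact hy.2
    haveI := h 0 h0
    have h2 : X.toH m 0 ⟨y, hyc⟩ = 0 := Subsingleton.elim _ _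
    rw [Submodule.mkQ_apply, Submodule.Quotient.mk_eq_zero] at h2
    have h3 : y ∈ X.cobdy m 0 := h2
    exact hy0 ((Submodule.mem_bot R).1 h3)
  | succ j ih =>
    intro hj
    have ihj := ih (by omega)
    by_contra hne
    have h1 := hE.succ j _ (gam_isHomogeneous 𝒜 (X.X (j + 1)).gr m) hne
    obtain ⟨y, hy, hy0⟩ := Submodule.exists_mem_ne_zero_of_ne_bot h1
    have hyc : y ∈ X.cocyc m (j + 1) := by
      refine ⟨hy.1, ?_⟩
      rw [X.exact_succ j]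
      exact hy.2
    haveI := h (j + 1) hj
    have h2 : X.toH m (j + 1) ⟨y, hyc⟩ = 0 := Subsingleton.elim _ _
    rw [Submodule.mkQ_apply, Submodule.Quotient.mk_eq_zero] at h2
    have h3 : y ∈ X.cobdy m (j + 1) := h2
    obtain ⟨w, hw, hwy⟩ := h3
    have hw' : w ∈ GrLC.gam m.toIdeal (X.X j).carrier := hw
    rw [ihj, Submodule.mem_bot] at hw'
    rw [hw', map_zero] at hwy
    exact hy0 hwy.symm

variable {E' : Type u} [AddCommGroup E'] [Module R E'] (𝓔 : ℤ → AddSubgroup E')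
  [DirectSum.Decomposition 𝓔] [SetLike.GradedSMul 𝒜 𝓔]

/-- the Bass numbers `μ_i(m, R)` vanish for `i > n` when `*H^j_m(R) = 0` for `j ≠ n` and
`*H^n_m(R)` is a shifted *injective module -/
theorem bassNum_eq_zero_of_gt [hmax : m.toIdeal.IsMaximal] (hm : GrLC.IsStarLocal 𝒜 m) (n : ℕ)
    (I : GrLC.StarInjRes 𝒜 𝒜)
    (hlow : ∀ j, j < n → Subsingleton (I.H m j)) (hhigh : ∀ i, n < i → Subsingleton (I.H m i))
    (hI : GrLC.IsStarInj 𝒜 𝓔) (a : ℤ) (Ψ : E' ≃ₗ[R] I.H m n)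
    (hΨ : ∀ k x, x ∈ 𝓔 k → Ψ x ∈ I.Hgr m n (k + a)) (i : ℕ) (hi : n < i) :
    GrLC.bassNum m.toIdeal R i = 0 := by
  let X : GrLC.StarInjRes 𝒜 𝒜 := minRes 𝒜 𝒜
  have hE : IsMinimal X := minRes_isMinimal 𝒜 𝒜
  have hlowX : ∀ j, j < n → Subsingleton (X.H m j) := fun j hj =>
    haveI := hlow j hj
    (resEquiv m I X j).symm.toEquiv.subsingleton
  have hhighX : ∀ i, n < i → Subsingleton (X.H m i) := fun i hi =>
    haveI := hhigh i hi
    (resEquiv m I X i).symm.toEquiv.subsingleton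
  have hgamlow := gam_eq_bot_of_H_subsingleton 𝒜 X hE n hlowX
  let Ψ' : E' ≃ₗ[R] X.H m n := Ψ.trans (resEquiv m I X n)
  have hΨ' : ∀ k x, x ∈ 𝓔 k → Ψ' x ∈ X.Hgr m n (k + a) := fun k x hx =>
    resEquiv_isGrHom m I X n (k + a) _ (hΨ k x hx)
  have hA := d_eq_zero_of_mem_gam 𝒜 X hE 𝓔 hI n (fun j hj => hgamlow j (by omega)) a Ψ' hΨ'
  have hgam := gam_eq_bot_of_gt 𝒜 X hE n hhighX hA i hi
  rw [hE.bassNum_eq m i, socLen, Module.length_eq_zero_iff,
    soc_eq_bot_of_gam_eq_bot m.toIdeal _ hgam]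
  infer_instance

/-- **Gorenstein criterion** -/
theorem isGorensteinRing_of_top_equiv [hmax : m.toIdeal.IsMaximal] (hm : GrLC.IsStarLocal 𝒜 m)
    (n : ℕ) (I : GrLC.StarInjRes 𝒜 𝒜)
    (hlow : ∀ j, j < n → Subsingleton (I.H m j)) (hhigh : ∀ i, n < i → Subsingleton (I.H m i))
    (hI : GrLC.IsStarInj 𝒜 𝓔) (a : ℤ) (Ψ : E' ≃ₗ[R] I.H m n)
    (hΨ : ∀ k x, x ∈ 𝓔 k → Ψ x ∈ I.Hgr m n (k + a)) : LocCoh.IsGorensteinRing R :=
  haveI : m.toIdeal.IsPrime := hmax.isPrime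
  isGorensteinRing_of_bassNum 𝒜 hm n (fun i hi =>
    bassNum_eq_zero_of_gt 𝒜 𝓔 hm n I hlow hhigh hI a Ψ hΨ i hi)

end Groth.Agent.H98.Ver
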