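import Groth.Agent.H98.GrStar.Basic
import Groth.Prelude.Def_GrLC

set_option autoImplicit false
set_option linter.unusedSectionVars false
universe u

/-!
# Veronese subrings and Veronese submodules: basics

`IsVer 𝒜 𝒜' φ q`: the graded ring `(R', 𝒜')` is, through the injective ring map `φ : R' → R`, the `q`-th
Veronese subring `⊕_j R_{jq}` of `(R, 𝒜)`.  For a graded `R`-module `(X, 𝒳)` we build the projection
`verP` onto the components of degree divisible by `q`, the `R'`-submodule `verSub` of those elements,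
and its grading `verGr j = X_{jq}`.
-/

namespace Groth.Agent.H98.Ver

open DirectSum Groth.Agent.H98.GrStar

variable {R : Type u} [CommRing R] (𝒜 : ℤ → AddSubgroup R) [GradedRing 𝒜]
variable {R' : Type u} [CommRing R'] (𝒜' : ℤ → AddSubgroup R') [GradedRing 𝒜']
variable (φ : R' →+* R) (q : ℕ)

/-- `(R', 𝒜')` is the `q`-th Veronese subring of `(R, 𝒜)` through `φ`. -/
structure IsVer : Prop where
  inj : Function.Injective φ
  deg : ∀ j : ℤ, (𝒜' j).map (φ : R' →+ R) = 𝒜 (j * q)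
  pos : 0 < q

namespace IsVer

variable {𝒜 𝒜' φ q} (hv : IsVer 𝒜 𝒜' φ q)
include hv

theorem map_mem {j : ℤ} {r' : R'} (hr' : r' ∈ 𝒜' j) : φ r' ∈ 𝒜 (j * q) := by
  rw [← hv.deg j]
  exact ⟨r', hr', rfl⟩

theorem exists_of_mem {j : ℤ} {r : R} (hr : r ∈ 𝒜 (j * q)) : ∃ r' ∈ 𝒜' j, φ r' = r := by
  rw [← hv.deg j] at hr
  obtain ⟨r', hr', h⟩ := hr
  exact ⟨r', hr', h⟩

theorem q_ne_zero : (q : ℤ) ≠ 0 := by
  have := hv.pos
  exact_mod_cast this.ne'

theorem mul_q_injective {j j' : ℤ} (h : j * q = j' * q) : j = j' :=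
  mul_right_cancel₀ hv.q_ne_zero h

end IsVer

/-! ### the projection onto the components of degree divisible by `q` -/

section Proj

variable {X : Type u} [AddCommGroup X] (𝒳 : ℤ → AddSubgroup X) [DirectSum.Decomposition 𝒳]

/-- the projection onto the components of degree divisible by `q` -/
noncomputable def verP : X →+ X :=
  ((DirectSum.decomposeAddEquiv 𝒳).symm.toAddMonoidHom.comp
    (DFinsupp.filterAddMonoidHom (fun l : ℤ => 𝒳 l) (fun l : ℤ => (q : ℤ) ∣ l))).comp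
    (DirectSum.decomposeAddEquiv 𝒳).toAddMonoidHom

theorem decompose_verP (x : X) (l : ℤ) :
    (DirectSum.decompose 𝒳 (verP q 𝒳 x) l : X) =
      if (q : ℤ) ∣ l then (DirectSum.decompose 𝒳 x l : X) else 0 := by
  have h1 : DirectSum.decompose 𝒳 (verP q 𝒳 x) =
      DFinsupp.filter (fun l : ℤ => (q : ℤ) ∣ l) (DirectSum.decompose 𝒳 x) :=
    (DirectSum.decomposeAddEquiv 𝒳).apply_symm_apply _
  rw [h1]
  change ((DFinsupp.filter (fun l : ℤ => (q : ℤ) ∣ l) (DirectSum.decompose 𝒳 x) l : 𝒳 l) : X) = _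
  rw [DFinsupp.filter_apply]
  split_ifs <;> rfl

theorem eq_of_decompose_eq {x y : X}
    (h : ∀ l, (DirectSum.decompose 𝒳 x l : X) = (DirectSum.decompose 𝒳 y l : X)) : x = y := by
  have : x - y = 0 := by
    apply eq_zero_of_decompose_eq_zero 𝒳
    intro l
    rw [DirectSum.decompose_sub, DirectSum.sub_apply, AddSubgroup.coe_sub, h l, sub_self]
  exact sub_eq_zero.1 this

theorem verP_of_mem_dvd {l : ℤ} {x : X} (hx : x ∈ 𝒳 l) (hl : (q : ℤ) ∣ l) : verP q 𝒳 x = x := by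
  apply eq_of_decompose_eq 𝒳
  intro l'
  rw [decompose_verP]
  split_ifs with h
  · rfl
  · have : l' ≠ l := fun h' => h (h' ▸ hl)
    rw [DirectSum.decompose_of_mem_ne 𝒳 hx this.symm]

theorem verP_of_mem_not_dvd {l : ℤ} {x : X} (hx : x ∈ 𝒳 l) (hl : ¬ (q : ℤ) ∣ l) :
    verP q 𝒳 x = 0 := by
  apply eq_of_decompose_eq 𝒳
  intro l'
  rw [decompose_verP, DirectSum.decompose_zero, DirectSum.zero_apply, ZeroMemClass.coe_zero]
  split_ifs with h
  · have : l' ≠ l := fun h' => hl (h' ▸ h)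
    rw [DirectSum.decompose_of_mem_ne 𝒳 hx this.symm]
  · rfl

theorem verP_verP (x : X) : verP q 𝒳 (verP q 𝒳 x) = verP q 𝒳 x := by
  apply eq_of_decompose_eq 𝒳
  intro l
  rw [decompose_verP, decompose_verP]
  split_ifs <;> rfl

theorem verP_eq_self_iff (x : X) :
    verP q 𝒳 x = x ↔ ∀ l : ℤ, ¬ (q : ℤ) ∣ l → (DirectSum.decompose 𝒳 x l : X) = 0 := by
  constructor
  · intro h l hl
    rw [← h, decompose_verP, if_neg hl]
  · intro h
    apply eq_of_decompose_eq 𝒳
    intro l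
    rw [decompose_verP]
    split_ifs with hl
    · rfl
    · exact (h l hl).symm

theorem decompose_mem_of_verP_eq {x : X} (hx : verP q 𝒳 x = x) (l : ℤ) :
    verP q 𝒳 (DirectSum.decompose 𝒳 x l : X) = (DirectSum.decompose 𝒳 x l : X) := by
  by_cases hl : (q : ℤ) ∣ l
  · exact verP_of_mem_dvd q 𝒳 (SetLike.coe_mem _) hl
  · rw [(verP_eq_self_iff q 𝒳 x).1 hx l hl, map_zero]

end Proj

/-! ### compatibility with scalars and homogeneous maps -/

section Mod

variable {𝒜 𝒜' φ q}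
variable {X : Type u} [AddCommGroup X] [Module R X] (𝒳 : ℤ → AddSubgroup X)
  [DirectSum.Decomposition 𝒳] [SetLike.GradedSMul 𝒜 𝒳]
variable {Y : Type u} [AddCommGroup Y] [Module R Y] (𝒴 : ℤ → AddSubgroup Y)
  [DirectSum.Decomposition 𝒴] [SetLike.GradedSMul 𝒜 𝒴]

theorem decompose_smul_of_mem {d : ℤ} {r : R} (hr : r ∈ 𝒜 d) (x : X) (l : ℤ) :
    (DirectSum.decompose 𝒳 (r • x) l : X) = r • (DirectSum.decompose 𝒳 x (l - d) : X) := by
  have := decompose_smul_homog 𝒜 𝒳 hr x (l - d)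
  rwa [add_sub_cancel] at this

theorem verP_smul_of_mem {j : ℤ} {r : R} (hr : r ∈ 𝒜 (j * q)) (x : X) :
    verP q 𝒳 (r • x) = r • verP q 𝒳 x := by
  apply eq_of_decompose_eq 𝒳
  intro l
  rw [decompose_verP, decompose_smul_of_mem 𝒳 hr, decompose_smul_of_mem 𝒳 hr, decompose_verP]
  have hiff : (q : ℤ) ∣ l ↔ (q : ℤ) ∣ l - j * q :=
    ⟨fun h => dvd_sub h (dvd_mul_left _ _), fun h => by
      have := dvd_add h (dvd_mul_left (q : ℤ) j)
      rwa [sub_add_cancel] at this⟩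
  by_cases h : (q : ℤ) ∣ l
  · rw [if_pos h, if_pos (hiff.1 h)]
  · rw [if_neg h, if_neg (fun h' => h (hiff.2 h')), smul_zero]

theorem verP_smul_φ (hv : IsVer 𝒜 𝒜' φ q) (c : R') (x : X) :
    verP q 𝒳 (φ c • x) = φ c • verP q 𝒳 x := by
  induction c using DirectSum.Decomposition.inductionOn 𝒜' with
  | zero => rw [map_zero, zero_smul, zero_smul, map_zero]
  | homogeneous c => exact verP_smul_of_mem 𝒳 (hv.map_mem c.2) x
  | add a b ha hb => rw [map_add, add_smul, add_smul, map_add, ha, hb]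

omit [SetLike.GradedSMul 𝒜 𝒳] [SetLike.GradedSMul 𝒜 𝒴] in
theorem verP_grHom (f : X →ₗ[R] Y) (hf : GrLC.IsGrHom 𝒳 𝒴 f) (x : X) :
    verP q 𝒴 (f x) = f (verP q 𝒳 x) := by
  apply eq_of_decompose_eq 𝒴
  intro l
  rw [decompose_verP, decompose_grHom 𝒳 𝒴 f hf, decompose_grHom 𝒳 𝒴 f hf, decompose_verP]
  split_ifs
  · rfl
  · rw [map_zero]

end Mod

end Groth.Agent.H98.Ver
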