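import Groth.Agent.H98.Ver.Compare

set_option autoImplicit false
set_option linter.unusedSectionVars false
universe u

/-!
# Dimensions of the pieces of the graded local cohomology of a Veronese module
-/

namespace Groth.Agent.H98.Ver

open DirectSum

variable {R : Type u} [CommRing R] {𝒜 : ℤ → AddSubgroup R} [GradedRing 𝒜]
variable {R' : Type u} [CommRing R'] {𝒜' : ℤ → AddSubgroup R'} [GradedRing 𝒜']
variable {φ : R' →+* R} {q : ℕ} (hv : IsVer 𝒜 𝒜' φ q)

/-- the isomorphism of the degree-zero subrings -/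
def deg0Map : GrLC.deg0 𝒜' → GrLC.deg0 𝒜 := fun c =>
  ⟨φ c, by
    have := hv.map_mem (j := 0) c.2
    rwa [zero_mul] at this⟩

theorem deg0Map_coe (c : GrLC.deg0 𝒜') : ((deg0Map hv c : GrLC.deg0 𝒜) : R) = φ c := rfl

theorem deg0Map_bijective : Function.Bijective (deg0Map hv) := by
  constructor
  · intro a b hab
    apply Subtype.ext
    apply hv.inj
    exact congrArg Subtype.val hab
  · intro r
    have h1 : (r : R) ∈ 𝒜 ((0 : ℤ) * q) := by
      rw [zero_mul]
      exact r.2
    obtain ⟨r', hr', h⟩ := hv.exists_of_mem h1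
    exact ⟨⟨r', hr'⟩, Subtype.ext h⟩

include hv in
/-- a `φ`-semilinear injection carrying `P'` onto `P` preserves the dimension over the degree-zero
subrings -/
theorem finrank_eq_of_semilinear {A : Type u} [AddCommGroup A] [Module R' A]
    {B : Type u} [AddCommGroup B] [Module R B]
    (P' : Submodule (GrLC.deg0 𝒜') A) (P : Submodule (GrLC.deg0 𝒜) B)
    (Θ : A →ₛₗ[φ] B) (hΘ : Function.Injective Θ)
    (hP : P'.toAddSubgroup.map (Θ : A →+ B) = P.toAddSubgroup) :
    Module.finrank (GrLC.deg0 𝒜') P' = Module.finrank (GrLC.deg0 𝒜) P := by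
  have hmem : ∀ x : P', Θ (x : A) ∈ P := by
    intro x
    have : Θ (x : A) ∈ P.toAddSubgroup := by
      rw [← hP]
      exact ⟨x, x.2, rfl⟩
    exact this
  let J₀ : P' →+ P :=
    { toFun := fun x => ⟨Θ (x : A), hmem x⟩
      map_zero' := Subtype.ext (map_zero Θ)
      map_add' := fun a b => Subtype.ext (map_add Θ (a : A) (b : A)) }
  have hJ : Function.Bijective J₀ := by
    constructor
    · intro a b hab
      apply Subtype.ext
      apply hΘ
      exact congrArg Subtype.val hab
    · intro y
      have : (y : B) ∈ P.toAddSubgroup := y.2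
      rw [← hP] at this
      obtain ⟨x, hx, hxy⟩ := this
      exact ⟨⟨x, hx⟩, Subtype.ext hxy⟩
  let J : P' ≃+ P := AddEquiv.ofBijective J₀ hJ
  have hrank := rank_eq_of_equiv_equiv (deg0Map hv) J (deg0Map_bijective hv) (by
    intro c x
    apply Subtype.ext
    change Θ ((c : R') • (x : A)) = φ (c : R') • Θ (x : A)
    exact map_smulₛₗ Θ _ _)
  unfold Module.finrank
  rw [hrank]

end Groth.Agent.H98.Ver
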