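import Groth.Agent.H98.Ver.Finrank
import Groth.Agent.H85.GrLCBridge
import Groth.Agent.H54.Dim

set_option autoImplicit false
set_option linter.unusedSectionVars false
universe u

/-!
# The Veronese subring of a positively graded ring over a field: *locality, dimension
-/

namespace Groth.Agent.H98.Ver

open DirectSum Groth.Agent.H85.GrLCBridge

variable {R : Type u} [CommRing R] {𝒜 : ℤ → AddSubgroup R} [GradedRing 𝒜]
variable {R' : Type u} [CommRing R'] {𝒜' : ℤ → AddSubgroup R'} [GradedRing 𝒜']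
variable {φ : R' →+* R} {q : ℕ} (hv : IsVer 𝒜 𝒜' φ q)
include hv

theorem hpos' (hpos : ∀ n : ℤ, n < 0 → 𝒜 n = ⊥) : ∀ n : ℤ, n < 0 → 𝒜' n = ⊥ := by
  intro n hn
  rw [eq_bot_iff]
  intro x hx
  have h1 : φ x ∈ 𝒜 (n * q) := hv.map_mem hx
  have hq : (0 : ℤ) < q := by exact_mod_cast hv.pos
  rw [hpos (n * q) (mul_neg_of_neg_of_pos hn hq)] at h1
  have h2 : φ x = 0 := (AddSubgroup.mem_bot).1 h1
  rw [AddSubgroup.mem_bot]
  exact hv.inj (h2.trans (map_zero φ).symm)

/-- the degree-zero subrings are isomorphic -/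
noncomputable def deg0Equiv : GrLC.deg0 𝒜' ≃+* GrLC.deg0 𝒜 :=
  RingEquiv.ofBijective (RingHom.restrict φ (GrLC.deg0 𝒜') (GrLC.deg0 𝒜) (fun x hx => by
    have := hv.map_mem (j := 0) hx
    rwa [zero_mul] at this)) (deg0Map_bijective hv)

theorem isField_deg0' (h0 : IsField (GrLC.deg0 𝒜)) : IsField (GrLC.deg0 𝒜') :=
  (deg0Equiv hv).toMulEquiv.isField h0

theorem nontrivial' [Nontrivial R] : Nontrivial R' := by
  refine ⟨⟨0, 1, fun h => ?_⟩⟩
  have := congrArg φ h
  rw [map_zero, map_one] at this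
  exact zero_ne_one this

theorem isIntegral_φ : φ.IsIntegral := by
  have hq0 : q ≠ 0 := hv.pos.ne'
  intro r
  induction r using DirectSum.Decomposition.inductionOn 𝒜 with
  | zero => exact φ.isIntegralElem_zero
  | @homogeneous n r =>
    have h1 : (r : R) ^ q ∈ 𝒜 (n * q) := by
      have := SetLike.pow_mem_graded (A := 𝒜) q r.2
      rwa [nsmul_eq_mul, mul_comm] at this
    obtain ⟨r', _, hr'⟩ := hv.exists_of_mem h1
    refine ⟨Polynomial.X ^ q - Polynomial.C r', Polynomial.monic_X_pow_sub_C r' hq0, ?_⟩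
    rw [Polynomial.eval₂_sub, Polynomial.eval₂_pow, Polynomial.eval₂_X, Polynomial.eval₂_C, hr',
      sub_self]
  | add a b ha hb => exact RingHom.IsIntegralElem.add φ ha hb

theorem ringKrullDim_eq : ringKrullDim R' = ringKrullDim R :=
  Groth.Agent.H54.ringKrullDim_eq_of_ringHom_isIntegral_of_injective φ (isIntegral_φ hv) hv.inj

end Groth.Agent.H98.Ver
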