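import Groth.Agent.H98.Ver.Pairing
import Groth.Agent.H98.Canon.TopDeg
import Groth.Agent.H98.GrStar.Irrel
import Groth.Agent.H98.GrStar.Shift

set_option autoImplicit false
set_option linter.unusedSectionVars false
universe u

/-!
# The *injective hull of `R/R_+` has perfect pairings
-/

namespace Groth.Agent.H98.Ver

open DirectSum Groth.Agent.H98.GrStar Groth.Agent.H98.Canon

variable {R : Type u} [CommRing R] (𝒜 : ℤ → AddSubgroup R) [GradedRing 𝒜]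
  (hpos : ∀ n : ℤ, n < 0 → ∀ r ∈ 𝒜 n, r = 0) {m : HomogeneousIdeal 𝒜}
  (hmsp : m.toIdeal = Ideal.span (⋃ n ∈ Set.Ioi (0 : ℤ), (𝒜 n : Set R)))
variable {E' : Type u} [AddCommGroup E'] [Module R E'] (𝓔 : ℤ → AddSubgroup E')
  [DirectSum.Decomposition 𝓔] [SetLike.GradedSMul 𝒜 𝓔]
  (e : (R ⧸ m.toIdeal) →ₗ[R] E')

omit [SetLike.GradedSMul 𝒜 𝓔] in
theorem eq_zero_of_mem_of_mem_ne {i j : ℤ} (hij : i ≠ j) {y : E'} (hi : y ∈ 𝓔 i) (hj : y ∈ 𝓔 j) :
    y = 0 := by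
  have h1 := DirectSum.decompose_of_mem_same 𝓔 hi
  have h2 := DirectSum.decompose_of_mem_ne 𝓔 hj (Ne.symm hij)
  rw [← h1, h2]

include hpos hmsp in
theorem hull_nondeg (he : GrLC.IsStarEss (GrLC.quotGr 𝒜 m) 𝓔 e) (n : ℤ) (x : E')
    (hx : x ∈ 𝓔 (-n)) (h : ∀ r ∈ 𝒜 n, r • x = 0) : x = 0 := by
  by_contra hx0
  obtain ⟨d, r, hr, hrx0, ⟨k, hk⟩⟩ :=
    exists_homog_mul_mem_range_of_homog 𝒜 (quotIdealGMod 𝒜 m).gr 𝓔 e he hx hx0
  have h1 : r • x ∈ 𝓔 (d + -n) := by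
    have := SetLike.GradedSMul.smul_mem (A := 𝒜) (B := 𝓔) hr hx
    rwa [vadd_eq_add] at this
  have h2 : r • x ∈ 𝓔 0 := by
    rw [← hk]
    exact e_mem_zero 𝒜 hpos hmsp 𝓔 e he k
  by_cases hd : d = n
  · exact hrx0 (h r (hd ▸ hr))
  · have : d + -n ≠ 0 := fun h' => hd (by omega)
    exact hrx0 (eq_zero_of_mem_of_mem_ne 𝓔 this h1 h2)

include hpos hmsp in
/-- on the degree-zero part of `*E(R/m)` an element acts through its degree-zero component -/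
theorem smul_eq_decompose_zero_smul (he : GrLC.IsStarEss (GrLC.quotGr 𝒜 m) 𝓔 e) (s : R) (y : E')
    (hy : y ∈ 𝓔 0) : s • y = (decompose 𝒜 s 0 : R) • y := by
  apply eq_of_decompose_eq 𝓔
  intro d
  have h1 := decompose_smul_of_right_mem 𝒜 𝓔 s hy d
  rw [add_zero] at h1
  rw [h1]
  have h0 : (decompose 𝒜 s 0 : R) • y ∈ 𝓔 0 := by
    have := SetLike.GradedSMul.smul_mem (A := 𝒜) (B := 𝓔) (SetLike.coe_mem (decompose 𝒜 s 0)) hy
    rwa [vadd_eq_add, add_zero] at this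
  rcases lt_trichotomy d 0 with hd | hd | hd
  · rw [hpos d hd _ (SetLike.coe_mem _), zero_smul, DirectSum.decompose_of_mem_ne 𝓔 h0 hd.ne']
  · subst hd
    rw [DirectSum.decompose_of_mem_same 𝓔 h0]
  · have h2 : (decompose 𝒜 s d : R) • y ∈ 𝓔 d := by
      have := SetLike.GradedSMul.smul_mem (A := 𝒜) (B := 𝓔) (SetLike.coe_mem (decompose 𝒜 s d)) hy
      rwa [vadd_eq_add, add_zero] at this
    rw [hull_eq_zero_of_pos 𝒜 hpos hmsp 𝓔 e he d hd _ h2,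
      DirectSum.decompose_of_mem_ne 𝓔 h0 hd.ne]

theorem geIdeal_isHomogeneous (n : ℤ) : (geIdeal 𝒜 hpos n).IsHomogeneous 𝒜 := by
  intro i r hr d hd
  by_cases hdi : d = i
  · subst hdi
    rw [DirectSum.decompose_of_mem_same 𝒜 (SetLike.coe_mem _)]
    exact hr d hd
  · rw [DirectSum.decompose_of_mem_ne 𝒜 (SetLike.coe_mem (decompose 𝒜 r i)) (Ne.symm hdi)]

theorem mem_geIdeal_of_mem {n : ℤ} {r : R} (hr : r ∈ 𝒜 n) : r ∈ geIdeal 𝒜 hpos n := by
  intro d hd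
  exact DirectSum.decompose_of_mem_ne 𝒜 hr (by omega)

/-- the degree-`n` component of a product with an element of `R_{≥ n}` -/
theorem decompose_mul_of_mem_geIdeal (n : ℤ) (s r : R) (hr : r ∈ geIdeal 𝒜 hpos n) :
    (decompose 𝒜 (s * r) n : R) = (decompose 𝒜 s 0 : R) * (decompose 𝒜 r n : R) := by
  classical
  have h1 := decompose_smul_eq_sum 𝒜 (selfGr 𝒜) s r n
  have h2 : (decompose (selfGr 𝒜) (s • r) n : R) = (decompose 𝒜 (s * r) n : R) := by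
    rw [smul_eq_mul]
    exact decompose_selfGr 𝒜 (s * r) n
  rw [← h2, h1]
  rw [Finset.sum_eq_single 0]
  · rw [sub_zero, smul_eq_mul, decompose_selfGr]
  · intro e _ he
    rcases lt_or_gt_of_ne he with h | h
    · rw [hpos e h _ (SetLike.coe_mem _), zero_smul]
    · rw [decompose_selfGr, hr (n - e) (by omega), smul_zero]
  · intro h0
    rw [DFinsupp.notMem_support_iff] at h0
    rw [h0]
    simp

include hpos hmsp in
theorem hull_repr (he : GrLC.IsStarInjHull 𝒜 (GrLC.quotGr 𝒜 m) 𝓔 e) (n : ℤ) (lam : R →+ E')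
    (h1 : ∀ r ∈ 𝒜 n, lam r ∈ 𝓔 0) (h2 : ∀ c ∈ 𝒜 0, ∀ r ∈ 𝒜 n, lam (c * r) = c • lam r) :
    ∃ x ∈ 𝓔 (-n), ∀ r ∈ 𝒜 n, r • x = lam r := by
  -- the graded ideal `R_{≥ n}`
  let J : Ideal R := geIdeal 𝒜 hpos n
  have hrange : (LinearMap.range (Submodule.subtype J)).IsHomogeneous (selfGr 𝒜) := by
    rw [Submodule.range_subtype]
    exact geIdeal_isHomogeneous 𝒜 hpos n
  let A : GrLC.GMod.{u} 𝒜 := subGMod 𝒜 (selfGr 𝒜) (Submodule.subtype J)
    (Submodule.injective_subtype _) hrange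
  let B : GrLC.GMod.{u} 𝒜 := GrLC.GMod.of 𝒜 R (selfGr 𝒜)
  -- the shifted hull
  let Y : GrLC.GMod.{u} 𝒜 := shiftGMod 𝒜 (GrLC.GMod.of 𝒜 E' 𝓔) n
  have hY : GrLC.IsStarInj 𝒜 Y.gr :=
    isStarInj_of_shift_equiv 𝒜 𝓔 he.starInj Y n (LinearEquiv.refl R E') (fun _ _ => Iff.rfl)
  -- the map `r ↦ lam (r_n)`
  let μ₀ : ↥J →ₗ[R] E' :=
    { toFun := fun r => lam (decompose 𝒜 (r : R) n : R)
      map_add' := fun a b => by
        change lam (decompose 𝒜 ((a : R) + (b : R)) n : R) = _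
        rw [DirectSum.decompose_add, DirectSum.add_apply, AddSubgroup.coe_add, map_add]
      map_smul' := fun s r => by
        change lam (decompose 𝒜 (s * (r : R)) n : R) = s • lam (decompose 𝒜 (r : R) n : R)
        rw [decompose_mul_of_mem_geIdeal 𝒜 hpos n s r r.2,
          h2 _ (SetLike.coe_mem (decompose 𝒜 s 0)) _ (SetLike.coe_mem (decompose 𝒜 (r : R) n)),
          ← smul_eq_decompose_zero_smul 𝒜 hpos hmsp 𝓔 e he.toIsStarEss s _
            (h1 _ (SetLike.coe_mem _))] }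
  let μ : A.carrier →ₗ[R] Y.carrier := μ₀
  have hμ : GrLC.IsGrHom A.gr Y.gr μ := by
    intro i (r : ↥J) hr
    change lam (decompose 𝒜 (r : R) n : R) ∈ 𝓔 (i - n)
    have hri : (r : R) ∈ 𝒜 i := hr
    by_cases hin : i = n
    · subst hin
      rw [sub_self]
      exact h1 _ (SetLike.coe_mem _)
    · rw [DirectSum.decompose_of_mem_ne 𝒜 hri hin, map_zero]
      exact zero_mem _
  obtain ⟨h, hh, hhμ⟩ := hY A B (Submodule.subtype J)
    (subGMod_isGrHom 𝒜 (selfGr 𝒜) _ _ hrange) (Submodule.injective_subtype _) μ hμ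
  have h1mem : (1 : R) ∈ 𝒜 0 := SetLike.GradedOne.one_mem
  refine ⟨h (1 : R), ?_, ?_⟩
  · have h3 := hh 0 (1 : R) h1mem
    change h (1 : R) ∈ 𝓔 (0 - n) at h3
    rwa [zero_sub] at h3
  · intro r hr
    have hrJ : r ∈ J := mem_geIdeal_of_mem 𝒜 hpos hr
    have h4 : h r = μ₀ ⟨r, hrJ⟩ := (LinearMap.congr_fun hhμ (⟨r, hrJ⟩ : ↥J))
    have h5 : r • h (1 : R) = h r := by
      rw [← map_smul]
      exact congrArg h (mul_one r)
    refine h5.trans (h4.trans ?_)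
    change lam (decompose 𝒜 r n : R) = lam r
    rw [DirectSum.decompose_of_mem_same 𝒜 hr]

include hpos hmsp in
/-- **the *injective hull of `R/R_+` has perfect pairings** -/
theorem isPerf_hull (he : GrLC.IsStarInjHull 𝒜 (GrLC.quotGr 𝒜 m) 𝓔 e) : IsPerf 𝒜 𝓔 where
  nondeg := hull_nondeg 𝒜 hpos hmsp 𝓔 e he.toIsStarEss
  repr := hull_repr 𝒜 hpos hmsp 𝓔 e he

end Groth.Agent.H98.Ver
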