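import Groth.Agent.H98.Ver.Sub
import Mathlib.RingTheory.GradedAlgebra.Homogeneous.Ideal
import Mathlib.RingTheory.Noetherian.Basic
import Mathlib.RingTheory.Finiteness.Ideal

set_option autoImplicit false
set_option linter.unusedSectionVars false
universe u

/-!
# Ring-level facts about Veronese subrings
-/

namespace Groth.Agent.H98.Ver

open DirectSum Groth.Agent.H98.GrStar

variable {R : Type u} [CommRing R] {𝒜 : ℤ → AddSubgroup R} [GradedRing 𝒜]
variable {R' : Type u} [CommRing R'] {𝒜' : ℤ → AddSubgroup R'} [GradedRing 𝒜']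
variable {φ : R' →+* R} {q : ℕ} (hv : IsVer 𝒜 𝒜' φ q)
include hv

/-- an element all of whose components have degree divisible by `q` comes from `R'` -/
theorem exists_φ_eq_of_verP_eq (x : R) (hx : verP q 𝒜 x = x) : ∃ r' : R', φ r' = x := by
  classical
  have hmem : ∀ l : ℤ, (DirectSum.decompose 𝒜 x l : R) ∈ (φ : R' →+ R).range := by
    intro l
    by_cases hl : (q : ℤ) ∣ l
    · obtain ⟨j, rfl⟩ := hl
      have h1 : (DirectSum.decompose 𝒜 x ((q : ℤ) * j) : R) ∈ 𝒜 (j * q) := by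
        rw [mul_comm j]
        exact SetLike.coe_mem _
      obtain ⟨r', _, hr'⟩ := hv.exists_of_mem h1
      exact ⟨r', hr'⟩
    · rw [(verP_eq_self_iff q 𝒜 x).1 hx l hl]
      exact zero_mem _
  have : x ∈ (φ : R' →+ R).range := by
    rw [← DirectSum.sum_support_decompose 𝒜 x]
    exact sum_mem (fun l _ => hmem l)
  obtain ⟨r', hr'⟩ := this
  exact ⟨r', hr'⟩

theorem verP_φ (c : R') : verP q 𝒜 (φ c) = φ c := by
  have := verP_smul_φ (𝒜 := 𝒜) 𝒜 hv c (1 : R)
  rw [smul_eq_mul, mul_one, smul_eq_mul] at this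
  have h1 : verP q 𝒜 (1 : R) = 1 :=
    verP_of_mem_dvd q 𝒜 (SetLike.GradedOne.one_mem (A := 𝒜)) (dvd_zero _)
  rw [h1, mul_one] at this
  exact this

/-- contraction of an extended ideal -/
theorem mem_of_map_mem (I' : Ideal R') (x : R') (hx : φ x ∈ Ideal.map φ I') : x ∈ I' := by
  have key : ∀ y ∈ Ideal.map φ I', ∀ r : R, ∃ a ∈ I', φ a = verP q 𝒜 (r * y) := by
    intro y hy
    refine Submodule.span_induction (p := fun y _ => ∀ r : R, ∃ a ∈ I', φ a = verP q 𝒜 (r * y))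
      ?_ ?_ ?_ ?_ hy
    · rintro _ ⟨a₀, ha₀, rfl⟩ r
      obtain ⟨s, hs⟩ := exists_φ_eq_of_verP_eq hv (verP q 𝒜 r) (verP_verP q 𝒜 r)
      refine ⟨a₀ * s, I'.mul_mem_right s ha₀, ?_⟩
      have := verP_smul_φ (𝒜 := 𝒜) 𝒜 hv a₀ r
      rw [smul_eq_mul, smul_eq_mul] at this
      rw [mul_comm r, this, map_mul, hs]
    · intro r
      exact ⟨0, I'.zero_mem, by rw [mul_zero, map_zero, map_zero]⟩
    · intro y z _ _ hy hz r
      obtain ⟨a, ha, ha'⟩ := hy r
      obtain ⟨b, hb, hb'⟩ := hz r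
      exact ⟨a + b, I'.add_mem ha hb, by rw [map_add, ha', hb', mul_add, map_add]⟩
    · intro c y _ hy r
      obtain ⟨a, ha, ha'⟩ := hy (r * c)
      exact ⟨a, ha, by rw [ha', smul_eq_mul, mul_assoc]⟩
  obtain ⟨a, ha, ha'⟩ := key (φ x) hx 1
  rw [one_mul, verP_φ hv] at ha'
  rw [← hv.inj ha']
  exact ha

/-- the Veronese subring of a Noetherian graded ring is Noetherian -/
theorem isNoetherianRing [IsNoetherianRing R] : IsNoetherianRing R' := by
  have hle : ∀ I J : Ideal R', Ideal.map φ I ≤ Ideal.map φ J ↔ I ≤ J := by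
    intro I J
    constructor
    · intro h x hx
      exact mem_of_map_mem hv J x (h (Ideal.mem_map_of_mem φ hx))
    · exact fun h => Ideal.map_mono h
  let f : Ideal R' ↪o Ideal R := OrderEmbedding.ofMapLEIff (Ideal.map φ) hle
  have h1 : WellFoundedGT (Ideal R) := (isNoetherian_iff' (R := R) (M := R)).1 inferInstance
  have h2 : WellFoundedGT (Ideal R') := f.wellFoundedGT
  exact (isNoetherian_iff' (R := R') (M := R')).2 h2

/-- the extension of a homogeneous ideal is homogeneous -/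
theorem map_isHomogeneous (a' : HomogeneousIdeal 𝒜') : (Ideal.map φ a'.toIdeal).IsHomogeneous 𝒜 := by
  obtain ⟨S, hS⟩ := (Ideal.IsHomogeneous.iff_exists (𝒜 := 𝒜') (I := a'.toIdeal)).1 a'.isHomogeneous
  rw [hS, Ideal.map_span]
  apply Ideal.homogeneous_span
  rintro _ ⟨_, ⟨s, _, rfl⟩, rfl⟩
  obtain ⟨j, hj⟩ := s.2
  exact ⟨j * q, hv.map_mem hj⟩

/-- the extension of a homogeneous ideal, as a homogeneous ideal -/
def mapHom (a' : HomogeneousIdeal 𝒜') : HomogeneousIdeal 𝒜 :=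
  ⟨Ideal.map φ a'.toIdeal, map_isHomogeneous hv a'⟩

theorem mapHom_toIdeal (a' : HomogeneousIdeal 𝒜') :
    (mapHom hv a').toIdeal = Ideal.map φ a'.toIdeal := rfl

/-! ### irrelevant ideals -/

section Irrel

variable (m : HomogeneousIdeal 𝒜)
  (hmsp : m.toIdeal = Ideal.span (⋃ n ∈ Set.Ioi (0 : ℤ), (𝒜 n : Set R)))
  (m' : HomogeneousIdeal 𝒜')
  (hm'sp : m'.toIdeal = Ideal.span (⋃ j ∈ Set.Ioi (0 : ℤ), (𝒜' j : Set R')))
include hmsp hm'sp

theorem map_irrel_le : Ideal.map φ m'.toIdeal ≤ m.toIdeal := by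
  rw [hm'sp, Ideal.map_span, Ideal.span_le]
  rintro _ ⟨s, hs, rfl⟩
  simp only [Set.mem_iUnion, Set.mem_Ioi, SetLike.mem_coe, exists_prop] at hs
  obtain ⟨j, hj, hs⟩ := hs
  rw [hmsp]
  apply Ideal.subset_span
  simp only [Set.mem_iUnion, Set.mem_Ioi, SetLike.mem_coe, exists_prop]
  have hq : (0 : ℤ) < q := by exact_mod_cast hv.pos
  exact ⟨j * q, mul_pos hj hq, hv.map_mem hs⟩

theorem irrel_le_radical : m.toIdeal ≤ (Ideal.map φ m'.toIdeal).radical := by
  rw [hmsp, Ideal.span_le]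
  intro x hx
  simp only [Set.mem_iUnion, Set.mem_Ioi, SetLike.mem_coe, exists_prop] at hx
  obtain ⟨n, hn, hx⟩ := hx
  refine ⟨q, ?_⟩
  have h1 : x ^ q ∈ 𝒜 (n * q) := by
    have := SetLike.pow_mem_graded (A := 𝒜) q hx
    rwa [nsmul_eq_mul, mul_comm] at this
  obtain ⟨x', hx', hxx'⟩ := hv.exists_of_mem h1
  rw [← hxx']
  apply Ideal.mem_map_of_mem
  rw [hm'sp]
  apply Ideal.subset_span
  simp only [Set.mem_iUnion, Set.mem_Ioi, SetLike.mem_coe, exists_prop]
  exact ⟨n, hn, hx'⟩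

theorem exists_pow_irrel_le [IsNoetherianRing R] : ∃ N : ℕ, m.toIdeal ^ N ≤ Ideal.map φ m'.toIdeal :=
  Ideal.exists_pow_le_of_le_radical_of_fg (irrel_le_radical hv m hmsp m' hm'sp)
    (IsNoetherian.noetherian _)

end Irrel

end Groth.Agent.H98.Ver
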