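import Groth.Agent.H98.Ver.Pairing
import Groth.Agent.H98.Ver.Ring

set_option autoImplicit false
set_option linter.unusedSectionVars false
universe u

/-!
# Perfect pairings pass to Veronese modules; the Veronese of `*E(R/R_+)` is *injective
-/

namespace Groth.Agent.H98.Ver

open DirectSum Groth.Agent.H98.GrStar

variable {R : Type u} [CommRing R] {𝒜 : ℤ → AddSubgroup R} [GradedRing 𝒜]
variable {R' : Type u} [CommRing R'] {𝒜' : ℤ → AddSubgroup R'} [GradedRing 𝒜']
variable {φ : R' →+* R} {q : ℕ} (hv : IsVer 𝒜 𝒜' φ q)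

/-- an additive retraction `R → R'` of `φ` -/
noncomputable def verRetr : R →+ R' where
  toFun r := (exists_φ_eq_of_verP_eq hv (verP q 𝒜 r) (verP_verP q 𝒜 r)).choose
  map_zero' := by
    apply hv.inj
    rw [(exists_φ_eq_of_verP_eq hv (verP q 𝒜 0) (verP_verP q 𝒜 0)).choose_spec, map_zero, map_zero]
  map_add' a b := by
    apply hv.inj
    rw [(exists_φ_eq_of_verP_eq hv (verP q 𝒜 (a + b)) (verP_verP q 𝒜 (a + b))).choose_spec,
      map_add, map_add,
      (exists_φ_eq_of_verP_eq hv (verP q 𝒜 a) (verP_verP q 𝒜 a)).choose_spec,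
      (exists_φ_eq_of_verP_eq hv (verP q 𝒜 b) (verP_verP q 𝒜 b)).choose_spec]

theorem φ_verRetr (r : R) : φ (verRetr hv r) = verP q 𝒜 r :=
  (exists_φ_eq_of_verP_eq hv (verP q 𝒜 r) (verP_verP q 𝒜 r)).choose_spec

theorem verRetr_φ (c : R') : verRetr hv (φ c) = c := by
  apply hv.inj
  rw [φ_verRetr, verP_φ hv]

variable {X : Type u} [AddCommGroup X] [Module R X] (𝒳 : ℤ → AddSubgroup X)
  [DirectSum.Decomposition 𝒳] [SetLike.GradedSMul 𝒜 𝒳]

/-- perfect pairings pass to the Veronese module -/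
theorem IsPerf.ver (hP : IsPerf 𝒜 𝒳) : IsPerf 𝒜' (verGr hv 𝒳) where
  nondeg := by
    intro n x hx h
    apply Subtype.ext
    have hx' : (x : X) ∈ 𝒳 (-(n * q)) := by
      have : (x : X) ∈ 𝒳 (-n * q) := hx
      rwa [neg_mul] at this
    apply hP.nondeg (n * q) (x : X) hx'
    intro r hr
    obtain ⟨r', hr', rfl⟩ := hv.exists_of_mem hr
    exact congrArg Subtype.val (h r' hr')
  repr := by
    intro n lam' h1 h2
    let lam : R →+ X :=
      ((verSub hv 𝒳).toAddSubgroup.subtype.comp lam').comp (verRetr hv)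
    have hlam : ∀ r' : R', lam (φ r') = ((lam' r' : ↥(verSub hv 𝒳)) : X) := by
      intro r'
      change ((lam' (verRetr hv (φ r')) : ↥(verSub hv 𝒳)) : X) = _
      rw [verRetr_φ]
    obtain ⟨x, hx, hxr⟩ := hP.repr (n * q) lam
      (by
        intro r hr
        obtain ⟨r', hr', rfl⟩ := hv.exists_of_mem hr
        rw [hlam]
        have := h1 r' hr'
        have h3 : ((lam' r' : ↥(verSub hv 𝒳)) : X) ∈ 𝒳 (0 * q) := this
        rwa [zero_mul] at h3)
      (by
        intro c hc r hr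
        have hc' : c ∈ 𝒜 ((0 : ℤ) * q) := by rwa [zero_mul]
        obtain ⟨c', hc'0, rfl⟩ := hv.exists_of_mem hc'
        obtain ⟨r', hr', rfl⟩ := hv.exists_of_mem hr
        rw [← map_mul, hlam, hlam, h2 c' hc'0 r' hr']
        rfl)
    have hx' : x ∈ 𝒳 (-n * q) := by rwa [neg_mul]
    refine ⟨⟨x, mem_verSub_of_mem hv 𝒳 hx'⟩, hx', ?_⟩
    intro r' hr'
    apply Subtype.ext
    change φ r' • x = _
    rw [hxr _ (hv.map_mem hr'), hlam]

end Groth.Agent.H98.Ver
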