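import Groth.Agent.H98.Ver.TopEquiv
import Groth.Agent.H98.Ver.Local
import Groth.Agent.H98.Ver.GorCrit
import Groth.Agent.H98.Ver.PerfHull
import Groth.Agent.H98.Ver.PerfVer
import Groth.Agent.H98.Bass0.GorTop2
import Groth.Agent.H98.GrHt.StarLocalDim
import Groth.Agent.H98.GrStar.Res
import Groth.Agent.H85.GrLCBase

set_option autoImplicit false
set_option linter.unusedSectionVars false
set_option linter.style.haveILetI false
universe u

/-!
# Veronese subrings of Gorenstein graded rings: `q ∣ a(R)` implies `R^{(q)}` Gorenstein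
-/

namespace Groth.Agent.H98.Ver

open DirectSum Groth.Agent.H98.GrStar Groth.Agent.H98.Canon Groth.Agent.H98.Bass0
  Groth.Agent.H98.GrHt Groth.Agent.H85.GrLCBridge

variable {R : Type u} [CommRing R] {𝒜 : ℤ → AddSubgroup R} [GradedRing 𝒜]
variable {R' : Type u} [CommRing R'] {𝒜' : ℤ → AddSubgroup R'} [GradedRing 𝒜']
variable {φ : R' →+* R} {q : ℕ}

/-- the Veronese of the *injective hull of `R/R_+` is *injective over the Veronese subring -/
theorem isStarInj_ver_hull (hv : IsVer 𝒜 𝒜' φ q) (hpos : ∀ n : ℤ, n < 0 → 𝒜 n = ⊥)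
    (h0 : IsField (GrLC.deg0 𝒜)) {m : HomogeneousIdeal 𝒜}
    (hmsp : m.toIdeal = Ideal.span (⋃ n ∈ Set.Ioi (0 : ℤ), (𝒜 n : Set R)))
    {E' : Type u} [AddCommGroup E'] [Module R E'] (𝓔 : ℤ → AddSubgroup E')
    [DirectSum.Decomposition 𝓔] [SetLike.GradedSMul 𝒜 𝓔] (e : (R ⧸ m.toIdeal) →ₗ[R] E')
    (he : GrLC.IsStarInjHull 𝒜 (GrLC.quotGr 𝒜 m) 𝓔 e) :
    GrLC.IsStarInj 𝒜' (verGr hv 𝓔) :=
  ((isPerf_hull 𝒜 (hpos_elt 𝒜 hpos) hmsp 𝓔 e he).ver hv 𝓔).isStarInj (isField_deg0' hv h0)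

/-- **Goto–Watanabe**: if `R` is Gorenstein and `q ∣ a(R)` then the Veronese subring `R^{(q)}` is
Gorenstein. -/
theorem isGorensteinRing_ver [LocCoh.IsGorensteinRing R] (hv : IsVer 𝒜 𝒜' φ q)
    (hpos : ∀ n : ℤ, n < 0 → 𝒜 n = ⊥) (h0 : IsField (GrLC.deg0 𝒜))
    (m : HomogeneousIdeal 𝒜) (hm : GrLC.IsStarLocal 𝒜 m)
    (hmsp : m.toIdeal = Ideal.span (⋃ n ∈ Set.Ioi (0 : ℤ), (𝒜 n : Set R)))
    (n : ℕ) (hn : ringKrullDim R = n) (I : GrLC.StarInjRes 𝒜 𝒜) (a : ℤ)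
    (ha : GrLC.endDeg (I.Hgr m n) = ((a : WithTop ℤ) : WithBot (WithTop ℤ)))
    (hdvd : (q : ℤ) ∣ a) : LocCoh.IsGorensteinRing R' := by
  haveI : IsNoetherianRing R := inferInstance
  haveI : IsNoetherianRing R' := isNoetherianRing hv
  haveI hCM : LocCoh.IsCohenMacaulayRing R :=
    { isCohenMacaulayLocalRing_localization := fun p _ => by
        haveI : LocCoh.IsGorensteinLocalRing (Localization.AtPrime p) :=
          LocCoh.IsGorensteinRing.isGorensteinLocalRing_localization p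
        exact Groth.Agent.H2.GorensteinCM.isCohenMacaulayLocalRing _ }
  have hmne : m.toIdeal ≠ ⊤ := ne_top_of_isStarLocal 𝒜 hm
  haveI : Nontrivial R := by
    by_contra hnt
    rw [not_nontrivial_iff_subsingleton] at hnt
    exact hmne (Subsingleton.elim _ _)
  haveI : Nontrivial R' := nontrivial' hv
  haveI hmax : m.toIdeal.IsMaximal := isMaximal_of_isStarLocal 𝒜 hpos hm
  -- the Veronese side
  have hpos'' := hpos' hv hpos
  have h0' := isField_deg0' hv h0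
  let m' : HomogeneousIdeal 𝒜' := irrH 𝒜'
  have hm' : GrLC.IsStarLocal 𝒜' m' := isStarLocal_irrH 𝒜' hpos'' h0'
  have hm'sp : m'.toIdeal = Ideal.span (⋃ j ∈ Set.Ioi (0 : ℤ), (𝒜' j : Set R')) := rfl
  haveI hmax' : m'.toIdeal.IsMaximal := irrI_isMaximal 𝒜' hpos'' h0'
  have hle := map_irrel_le hv m hmsp m' hm'sp
  have hpow := exists_pow_irrel_le hv m hmsp m' hm'sp
  -- the hull and the top local cohomology of `R`
  obtain ⟨E, e, he⟩ := exists_isStarInjHull 𝒜 (quotIdealGMod 𝒜 m).gr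
  have hht : m.toIdeal.height = n := by
    have h1 := height_eq_ringKrullDim_of_isStarLocal 𝒜 hpos hm
    rw [hn] at h1
    exact_mod_cast h1
  obtain ⟨g, φ₀, hφ₀⟩ := exists_top_H_equiv R 𝒜 m hm n hht I E.carrier E.gr e he
  letI decH : DirectSum.Decomposition (I.Hgr m n) :=
    (Hgr_isInternal 𝒜 𝒜 I m n).chooseDecomposition
  have hΨ : ∀ k x, x ∈ E.gr k → φ₀.symm x ∈ I.Hgr m n (k + -g) := by
    intro k x hx
    have := symm_mem_of_shift (I.Hgr m n) E.gr φ₀.toAddEquiv g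
      (fun i y hy => by rw [add_comm]; exact hφ₀ i y hy) k x hx
    rwa [sub_eq_add_neg] at this
  have hend := endDeg_eq_of_hull_equiv 𝒜 (hpos_elt 𝒜 hpos) hm hmsp E.gr e he.toIsStarEss I n (-g)
    φ₀.symm hΨ
  have hag : a = -g := by
    rw [ha] at hend
    exact_mod_cast hend
  obtain ⟨a', ha'⟩ := hdvd
  have hΨ' : ∀ k x, x ∈ E.gr k → φ₀.symm x ∈ I.Hgr m n (k + a' * q) := by
    intro k x hx
    have := hΨ k x hx
    rwa [← hag, ha', mul_comm] at this
  -- the Veronese resolution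
  let I' : GrLC.StarInjRes 𝒜' 𝒜' := res 𝒜' 𝒜'
  obtain ⟨Ψ', hΨ''⟩ := exists_ver_top_equiv hv I I' m m' hle hpow E.gr n a' φ₀.symm hΨ'
  -- vanishing
  have hvanR : ∀ j, j ≠ n → Subsingleton (I.H m j) := by
    intro j hj
    rcases lt_or_gt_of_ne hj with h | h
    · exact Groth.Agent.H85.GrLCBase.subsingleton_H_of_cm 𝒜 m hm n hn I j h
    · exact H_subsingleton_of_gt 𝒜 n hn I j h
  have hvanR' : ∀ j, j ≠ n → Subsingleton (I'.H m' j) := by
    intro j hj
    obtain ⟨Θ, hΘinj, -⟩ := exists_semilinear_self hv I I' m m' hle hpow j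
    haveI := hvanR j hj
    exact hΘinj.subsingleton
  exact isGorensteinRing_of_top_equiv 𝒜' (verGr hv E.gr) hm' n I'
    (fun j hj => hvanR' j (ne_of_lt hj)) (fun i hi => hvanR' i (ne_of_gt hi))
    (isStarInj_ver_hull hv hpos h0 hmsp E.gr e he) a' Ψ' hΨ''

end Groth.Agent.H98.Ver
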