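import Groth.Agent.H98.Ver.Pairing
import Groth.Agent.H98.GrStar.Shift

set_option autoImplicit false
set_option linter.unusedSectionVars false
set_option linter.style.haveILetI false
universe u

/-!
# The adjunction `Hom_S(B, V)_d ≅ Hom_{S_0}(B_{-d}, V_0)` for modules with perfect pairings
-/

namespace Groth.Agent.H98.Ver

open DirectSum Groth.Agent.H98.GrStar

variable {S : Type u} [CommRing S] {ℬ : ℤ → AddSubgroup S} [GradedRing ℬ]
variable {V : Type u} [AddCommGroup V] [Module S V] {𝒱 : ℤ → AddSubgroup V}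
  [DirectSum.Decomposition 𝒱] [SetLike.GradedSMul ℬ 𝒱]
variable {B : Type u} [AddCommGroup B] [Module S B] (ℬB : ℤ → AddSubgroup B)
  [DirectSum.Decomposition ℬB] [SetLike.GradedSMul ℬ ℬB]

/-- a map of degree `d` into a module with perfect pairings is determined by its restriction to
the piece of degree `-d` -/
theorem IsPerf.eq_zero_of_deg (hP : IsPerf ℬ 𝒱) (d : ℤ) (u : B →ₗ[S] V)
    (hu : GrLC.IsGrHomDeg ℬB 𝒱 u d) (h0 : ∀ b ∈ ℬB (-d), u b = 0) : u = 0 := by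
  apply LinearMap.ext
  intro b
  rw [LinearMap.zero_apply]
  induction b using DirectSum.Decomposition.inductionOn ℬB with
  | zero => rw [map_zero]
  | @homogeneous j b =>
    have hb : u (b : B) ∈ 𝒱 (j + d) := hu j _ b.2
    apply hP.nondeg (-(j + d)) _ (by rw [neg_neg]; exact hb)
    intro r hr
    rw [← map_smul]
    apply h0
    have := SetLike.GradedSMul.smul_mem (A := ℬ) (B := ℬB) hr b.2
    rw [vadd_eq_add] at this
    have h2 : -(j + d) + j = -d := by ring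
    rwa [h2] at this
  | add a c ha hc => rw [map_add, ha, hc, add_zero]

/-- existence in the adjunction, in degree `d` -/
theorem IsPerf.exists_hom_deg (hP : IsPerf ℬ 𝒱) (d : ℤ) (Λ : B →+ V) (hΛ0 : ∀ b, Λ b ∈ 𝒱 0)
    (hΛne : ∀ j : ℤ, j ≠ -d → ∀ b ∈ ℬB j, Λ b = 0)
    (hΛlin : ∀ c ∈ ℬ 0, ∀ b, Λ (c • b) = c • Λ b) :
    ∃ u : B →ₗ[S] V, GrLC.IsGrHomDeg ℬB 𝒱 u d ∧ ∀ (b : B) (r : S), gp0 𝒱 (r • u b) = Λ (r • b) := by
  let Y : GrLC.GMod.{u} ℬ := shiftGMod ℬ (GrLC.GMod.of ℬ B ℬB) d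
  have hne : ∀ j : ℤ, j ≠ 0 → ∀ b ∈ Y.gr j, Λ b = 0 := by
    intro j hj b hb
    exact hΛne (j - d) (fun h => hj (by omega)) b hb
  obtain ⟨h, hh, hhΛ⟩ := hP.exists_hom Y.gr Λ hΛ0 hne hΛlin
  refine ⟨h, ?_, hhΛ⟩
  intro j b hb
  apply hh (j + d) b
  change b ∈ ℬB (j + d - d)
  rwa [add_sub_cancel_right]

end Groth.Agent.H98.Ver
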