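import Groth.Agent.H98.Ver.Sub
import Groth.Agent.H98.GrStar.HomComp
import Mathlib.LinearAlgebra.PerfectPairing.Basic

set_option autoImplicit false
set_option linter.unusedSectionVars false
set_option linter.style.haveILetI false
universe u

/-!
# Graded Matlis pairings

`MPair 𝒜 𝓗 𝒞 P`: a balanced pairing `P : H × C → R_0` of graded `R`-modules which pairs `H_{-j}` and
`C_j` nondegenerately (and other pieces trivially).  When the `C_j` are finite-dimensional over the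
field `R_0`, every `R_0`-linear functional on `H_{-j}` is represented by an element of `C_j`
(`MPair.exists_repr`).
-/

namespace Groth.Agent.H98.Ver

open DirectSum Groth.Agent.H98.GrStar

section Def

variable {R : Type u} [CommRing R] (𝒜 : ℤ → AddSubgroup R) [GradedRing 𝒜]
variable {H : Type u} [AddCommGroup H] [Module R H] (𝓗 : ℤ → AddSubgroup H)
variable {C : Type u} [AddCommGroup C] [Module R C] (𝒞 : ℤ → AddSubgroup C)

/-- a graded Matlis pairing -/
structure MPair (P : H →+ C →+ R) : Prop where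
  val0 : ∀ h c, P h c ∈ 𝒜 0
  bal : ∀ (r : R) h c, P (r • h) c = P h (r • c)
  lin0 : ∀ a ∈ 𝒜 0, ∀ h c, P (a • h) c = a * P h c
  deg : ∀ i j : ℤ, i + j ≠ 0 → ∀ h ∈ 𝓗 i, ∀ c ∈ 𝒞 j, P h c = 0
  nondegH : ∀ j : ℤ, ∀ h ∈ 𝓗 (-j), (∀ c ∈ 𝒞 j, P h c = 0) → h = 0
  nondegC : ∀ j : ℤ, ∀ c ∈ 𝒞 j, (∀ h ∈ 𝓗 (-j), P h c = 0) → c = 0

variable {𝒜 𝓗 𝒞} {P : H →+ C →+ R}

/-- a homogeneous `h ∈ H_{-i}` only sees the component of degree `i` -/
theorem MPair.apply_eq_decompose [DirectSum.Decomposition 𝒞] (hP : MPair 𝒜 𝓗 𝒞 P) (i : ℤ)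
    (h : H) (hh : h ∈ 𝓗 (-i)) (c : C) : P h c = P h (DirectSum.decompose 𝒞 c i : C) := by
  induction c using DirectSum.Decomposition.inductionOn 𝒞 with
  | zero => rw [DirectSum.decompose_zero, DirectSum.zero_apply, ZeroMemClass.coe_zero]
  | @homogeneous l c =>
    by_cases hl : l = i
    · subst hl
      rw [DirectSum.decompose_of_mem_same 𝒞 c.2]
    · rw [DirectSum.decompose_of_mem_ne 𝒞 c.2 hl, map_zero]
      exact hP.deg (-i) l (fun h' => hl (by omega)) h hh _ c.2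
  | add a b ha hb =>
    rw [map_add, ha, hb, DirectSum.decompose_add, DirectSum.add_apply, AddSubgroup.coe_add,
      map_add]

/-- `c` pairs to zero with everything iff it is zero -/
theorem MPair.eq_zero_of_forall [DirectSum.Decomposition 𝒞] (hP : MPair 𝒜 𝓗 𝒞 P) (c : C)
    (h0 : ∀ (i : ℤ) (h : H), h ∈ 𝓗 i → P h c = 0) : c = 0 := by
  apply eq_zero_of_decompose_eq_zero 𝒞
  intro i
  apply hP.nondegC i _ (SetLike.coe_mem _)
  intro h hh
  rw [← hP.apply_eq_decompose i h hh c]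
  exact h0 _ h hh

variable [SetLike.GradedSMul 𝒜 𝓗] [SetLike.GradedSMul 𝒜 𝒞]

/-- **representability**: every `R_0`-linear functional on `H_{-j}` is pairing with an element of
`C_j`, if `C_j` is finite-dimensional -/
theorem MPair.exists_repr (hP : MPair 𝒜 𝓗 𝒞 P) (h0 : IsField (GrLC.deg0 𝒜)) (j : ℤ)
    (hfin : letI : Field (GrLC.deg0 𝒜) := h0.toField
      Module.Finite (GrLC.deg0 𝒜) (GrLC.comp 𝒜 𝒞 j))
    (lam : H →+ R) (hlam0 : ∀ h, lam h ∈ 𝒜 0) (hlamlin : ∀ a ∈ 𝒜 0, ∀ h, lam (a • h) = a * lam h) :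
    ∃ c ∈ 𝒞 j, ∀ h ∈ 𝓗 (-j), P h c = lam h := by
  letI : Field (GrLC.deg0 𝒜) := h0.toField
  haveI := hfin
  let p : GrLC.comp 𝒜 𝓗 (-j) →ₗ[GrLC.deg0 𝒜] GrLC.comp 𝒜 𝒞 j →ₗ[GrLC.deg0 𝒜] GrLC.deg0 𝒜 :=
    LinearMap.mk₂ (GrLC.deg0 𝒜) (fun h c => ⟨P (h : H) (c : C), hP.val0 _ _⟩)
      (fun h₁ h₂ c => Subtype.ext (by
        change P ((h₁ : H) + (h₂ : H)) (c : C) = P (h₁ : H) (c : C) + P (h₂ : H) (c : C)
        rw [map_add, AddMonoidHom.add_apply]))
      (fun a h c => Subtype.ext (by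
        change P ((a : R) • (h : H)) (c : C) = (a : R) * P (h : H) (c : C)
        exact hP.lin0 _ a.2 _ _))
      (fun h c₁ c₂ => Subtype.ext (by
        change P (h : H) ((c₁ : C) + (c₂ : C)) = P (h : H) (c₁ : C) + P (h : H) (c₂ : C)
        rw [map_add]))
      (fun a h c => Subtype.ext (by
        change P (h : H) ((a : R) • (c : C)) = (a : R) * P (h : H) (c : C)
        rw [← hP.bal]
        exact hP.lin0 _ a.2 _ _))
  have hp : ∀ (h : GrLC.comp 𝒜 𝓗 (-j)) (c : GrLC.comp 𝒜 𝒞 j),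
      ((p h c : GrLC.deg0 𝒜) : R) = P (h : H) (c : C) := fun _ _ => rfl
  have hinj : Function.Injective p := by
    rw [injective_iff_map_eq_zero]
    intro h hh
    apply Subtype.ext
    apply hP.nondegH j _ h.2
    intro c hc
    have := congrArg (fun F => ((F ⟨c, hc⟩ : GrLC.deg0 𝒜) : R)) hh
    simpa [hp] using this
  have hinj' : Function.Injective p.flip := by
    rw [injective_iff_map_eq_zero]
    intro c hc
    apply Subtype.ext
    apply hP.nondegC j _ c.2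
    intro h hh
    have := congrArg (fun F => ((F ⟨h, hh⟩ : GrLC.deg0 𝒜) : R)) hc
    simpa [hp] using this
  haveI : p.IsPerfPair := LinearMap.IsPerfPair.of_injective' hinj hinj'
  let lamk : Module.Dual (GrLC.deg0 𝒜) (GrLC.comp 𝒜 𝓗 (-j)) :=
    { toFun := fun h => ⟨lam (h : H), hlam0 _⟩
      map_add' := fun h₁ h₂ => Subtype.ext (by
        change lam ((h₁ : H) + (h₂ : H)) = lam (h₁ : H) + lam (h₂ : H)
        rw [map_add])
      map_smul' := fun a h => Subtype.ext (by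
        change lam ((a : R) • (h : H)) = (a : R) * lam (h : H)
        exact hlamlin _ a.2 _) }
  refine ⟨(p.flip.toPerfPair.symm lamk : GrLC.comp 𝒜 𝒞 j), (p.flip.toPerfPair.symm lamk).2, ?_⟩
  intro h hh
  have := LinearMap.apply_toPerfPair_flip p lamk ⟨h, hh⟩
  exact congrArg (fun z : GrLC.deg0 𝒜 => (z : R)) this

end Def

end Groth.Agent.H98.Ver
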