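import Groth.Agent.H98.Ver.Coord
import Groth.Agent.H98.Ver.Adj
import Groth.Agent.H98.Ver.MPair
import Groth.Agent.H98.GrHt.StarLocalDim
import Groth.Agent.H81.GrCanonUnique

set_option autoImplicit false
set_option linter.unusedSectionVars false
set_option linter.style.haveILetI false
universe u

/-!
# The Matlis pairing between a *canonical module and the top local cohomology

If `Φ : Hom_R(C, *E(R/R_+)) ≅ H` is a homogeneous isomorphism (with `C` finitely generated) then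
`(h, c) ↦ coordinate of (Φ⁻¹ h)(c)_0` is a graded Matlis pairing `H × C → R_0`.
-/

namespace Groth.Agent.H98.Ver

open DirectSum Groth.Agent.H98.GrStar Groth.Agent.H98.Canon Groth.Agent.H98.GrHt

section Symm

variable {R : Type u} [CommRing R] (𝒜 : ℤ → AddSubgroup R) [GradedRing 𝒜]
variable {C : Type u} [AddCommGroup C] [Module R C] (𝒞 : ℤ → AddSubgroup C)
  [DirectSum.Decomposition 𝒞] [SetLike.GradedSMul 𝒜 𝒞]
variable {E' : Type u} [AddCommGroup E'] [Module R E'] (𝓔 : ℤ → AddSubgroup E')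
  [DirectSum.Decomposition 𝓔] [SetLike.GradedSMul 𝒜 𝓔]
variable {H : Type u} [AddCommGroup H] [Module R H] (𝓗 : ℤ → AddSubgroup H)
  [DirectSum.Decomposition 𝓗]

/-- the inverse of a homogeneous isomorphism `Hom_R(C, E) ≅ H` is homogeneous -/
theorem symm_mem_homDeg [Module.Finite R C] (Φ : (C →ₗ[R] E') ≃ₗ[R] H)
    (hΦ : GrLC.IsGrHom (fun d => (GrLC.homDeg 𝒜 𝒞 𝓔 d).toAddSubgroup) 𝓗 Φ.toLinearMap)
    (i : ℤ) (h : H) (hh : h ∈ 𝓗 i) : GrLC.IsGrHomDeg 𝒞 𝓔 (Φ.symm h) i := by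
  classical
  obtain ⟨D, hD⟩ := Groth.Agent.H81.GrCanonUnique.exists_eq_sum_comp 𝒜 𝒞 𝓔 (Φ.symm h)
  have hmem : ∀ d, Φ (comp 𝒜 𝒞 𝓔 (Φ.symm h) d) ∈ 𝓗 d := by
    intro d
    apply hΦ d
    intro l x hx
    exact comp_mem 𝒜 𝒞 𝓔 (Φ.symm h) d hx
  have h1 : h = ∑ d ∈ D, Φ (comp 𝒜 𝒞 𝓔 (Φ.symm h) d) := by
    rw [← map_sum, ← hD, LinearEquiv.apply_symm_apply]
  have h2 : h = ∑ d ∈ D.filter (fun d => d = i), Φ (comp 𝒜 𝒞 𝓔 (Φ.symm h) d) := by
    have h3 : h = ((DirectSum.decompose 𝓗 h i : 𝓗 i) : H) :=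
      (DirectSum.decompose_of_mem_same 𝓗 hh).symm
    conv_lhs => rw [h3, h1]
    rw [DirectSum.decompose_sum, DFinsupp.finsetSum_apply, AddSubgroup.val_finsetSum,
      Finset.sum_filter]
    refine Finset.sum_congr rfl fun d _ => ?_
    by_cases hd : d = i
    · rw [if_pos hd]
      subst hd
      exact DirectSum.decompose_of_mem_same 𝓗 (hmem d)
    · rw [if_neg hd]
      exact DirectSum.decompose_of_mem_ne 𝓗 (hmem d) hd
  have h4 : Φ.symm h = ∑ d ∈ D.filter (fun d => d = i), comp 𝒜 𝒞 𝓔 (Φ.symm h) d := by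
    conv_lhs => rw [h2]
    rw [map_sum]
    refine Finset.sum_congr rfl fun d _ => ?_
    rw [LinearEquiv.symm_apply_apply]
  intro l x hx
  rw [h4, LinearMap.sum_apply]
  refine sum_mem fun d hd => ?_
  have hdi : d = i := (Finset.mem_filter.1 hd).2
  rw [hdi]
  exact comp_mem 𝒜 𝒞 𝓔 (Φ.symm h) i hx

end Symm

section Main

variable {R : Type u} [CommRing R] [IsNoetherianRing R] (𝒜 : ℤ → AddSubgroup R) [GradedRing 𝒜]
  (hpos : ∀ n : ℤ, n < 0 → 𝒜 n = ⊥) (h0 : IsField (GrLC.deg0 𝒜))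
  {m : HomogeneousIdeal 𝒜} (hm : GrLC.IsStarLocal 𝒜 m)
  (hmsp : m.toIdeal = Ideal.span (⋃ n ∈ Set.Ioi (0 : ℤ), (𝒜 n : Set R)))
variable {E' : Type u} [AddCommGroup E'] [Module R E'] (𝓔 : ℤ → AddSubgroup E')
  [DirectSum.Decomposition 𝓔] [SetLike.GradedSMul 𝒜 𝓔]
  (e : (R ⧸ m.toIdeal) →ₗ[R] E') (he : GrLC.IsStarInjHull 𝒜 (GrLC.quotGr 𝒜 m) 𝓔 e)
variable {C : Type u} [AddCommGroup C] [Module R C] (𝒞 : ℤ → AddSubgroup C)
  [DirectSum.Decomposition 𝒞] [SetLike.GradedSMul 𝒜 𝒞]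
variable {H : Type u} [AddCommGroup H] [Module R H] (𝓗 : ℤ → AddSubgroup H)
  [DirectSum.Decomposition 𝓗]

include hpos h0 hm hmsp he in
/-- **the Matlis pairing of a *canonical module with the top local cohomology** -/
theorem exists_mpair [Module.Finite R C] (Φ : (C →ₗ[R] E') ≃ₗ[R] H)
    (hΦ : GrLC.IsGrHom (fun d => (GrLC.homDeg 𝒜 𝒞 𝓔 d).toAddSubgroup) 𝓗 Φ.toLinearMap) :
    ∃ P : H →+ C →+ R, MPair 𝒜 𝓗 𝒞 P := by
  classical
  letI : Field (GrLC.deg0 𝒜) := h0.toField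
  haveI hmax : m.toIdeal.IsMaximal := isMaximal_of_isStarLocal 𝒜 hpos hm
  have hpe := hpos_elt 𝒜 hpos
  have hPerf : IsPerf 𝒜 𝓔 := isPerf_hull 𝒜 hpe hmsp 𝓔 e he
  have hess := he.toIsStarEss
  obtain ⟨co, hco0, hco, hcolin⟩ := exists_coord 𝒜 hpe hmsp 𝓔 e hess
  have he1 : e 1 ∈ 𝓔 0 := e_mem_zero 𝒜 hpe hmsp 𝓔 e hess 1
  have hco_inj : ∀ x ∈ 𝓔 0, co x = 0 → x = 0 := by
    intro x hx h
    rw [← gp0_of_mem_zero 𝓔 hx, ← hco, h, zero_smul]
  have hco_ne : ∀ j : ℤ, j ≠ 0 → ∀ x ∈ 𝓔 j, co x = 0 := by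
    intro j hj x hx
    apply hull_gen_inj 𝒜 hpe hmsp 𝓔 e hess _ (hco0 x)
    rw [hco, gp0_of_mem_ne 𝓔 hj hx]
  have hco_one : co (e 1) = 1 := by
    have h1 : (co (e 1) - 1) • e 1 = 0 := by
      rw [sub_smul, hco, one_smul, gp0_of_mem_zero 𝓔 he1, sub_self]
    exact sub_eq_zero.1 (hull_gen_inj 𝒜 hpe hmsp 𝓔 e hess _
      (sub_mem (hco0 _) SetLike.GradedOne.one_mem) h1)
  let P : H →+ C →+ R :=
    { toFun := fun h =>
        { toFun := fun c => co (Φ.symm h c)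
          map_zero' := by rw [map_zero, map_zero]
          map_add' := fun a b => by rw [map_add, map_add] }
      map_zero' := by
        apply AddMonoidHom.ext
        intro c
        change co (Φ.symm 0 c) = 0
        rw [map_zero, LinearMap.zero_apply, map_zero]
      map_add' := fun a b => by
        apply AddMonoidHom.ext
        intro c
        change co (Φ.symm (a + b) c) = co (Φ.symm a c) + co (Φ.symm b c)
        rw [map_add, LinearMap.add_apply, map_add] }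
  have hPdef : ∀ h c, P h c = co (Φ.symm h c) := fun _ _ => rfl
  have hsymm := symm_mem_homDeg 𝒜 𝒞 𝓔 𝓗 Φ hΦ
  refine ⟨P, ?_, ?_, ?_, ?_, ?_, ?_⟩
  · intro h c
    exact hco0 _
  · intro r h c
    rw [hPdef, hPdef, map_smul, LinearMap.smul_apply, ← map_smul]
  · intro a ha h c
    rw [hPdef, hPdef, map_smul, LinearMap.smul_apply, hcolin a ha]
  · intro i j hij h hh c hc
    rw [hPdef]
    exact hco_ne (j + i) (by omega) _ (hsymm i h hh j c hc)
  · intro j h hh hall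
    have hu := hsymm (-j) h hh
    have h1 : Φ.symm h = 0 := by
      apply hPerf.eq_zero_of_deg 𝒞 (-j) _ hu
      intro b hb
      rw [neg_neg] at hb
      have h2 : Φ.symm h b ∈ 𝓔 0 := by
        have := hu j b hb
        rwa [add_neg_cancel] at this
      exact hco_inj _ h2 (hall b hb)
    have h3 := congrArg Φ h1
    rwa [LinearEquiv.apply_symm_apply, map_zero] at h3
  · intro j c hc hall
    by_contra hc0
    -- a functional on `C_j` with value `1` at `c`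
    let cbar : GrLC.comp 𝒜 𝒞 j := ⟨c, hc⟩
    have hcbar : cbar ≠ 0 := fun h => hc0 (congrArg Subtype.val h)
    obtain ⟨f₀, hf₀⟩ : ∃ f₀ : GrLC.comp 𝒜 𝒞 j →ₗ[GrLC.deg0 𝒜] GrLC.deg0 𝒜, f₀ cbar = 1 := by
      have hinj : Function.Injective
          (LinearMap.toSpanSingleton (GrLC.deg0 𝒜) (GrLC.comp 𝒜 𝒞 j) cbar) := by
        intro a b hab
        simp only [LinearMap.toSpanSingleton_apply] at hab
        exact smul_left_injective (GrLC.deg0 𝒜) hcbar hab
      obtain ⟨g, hg⟩ := LinearMap.exists_leftInverse_of_injective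
        (LinearMap.toSpanSingleton (GrLC.deg0 𝒜) (GrLC.comp 𝒜 𝒞 j) cbar)
        (LinearMap.ker_eq_bot.mpr hinj)
      refine ⟨g, ?_⟩
      have := congrArg (fun F => F (1 : GrLC.deg0 𝒜)) hg
      simpa using this
    let pr : C → GrLC.comp 𝒜 𝒞 j := fun x => ⟨gproj 𝒞 j x, gproj_mem 𝒞 j x⟩
    have hpr_add : ∀ x y, pr (x + y) = pr x + pr y := fun x y =>
      Subtype.ext (by change gproj 𝒞 j (x + y) = gproj 𝒞 j x + gproj 𝒞 j y; rw [map_add])
    have hpr_smul : ∀ (a : GrLC.deg0 𝒜) x, pr ((a : R) • x) = a • pr x := fun a x =>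
      Subtype.ext (by
        change gproj 𝒞 j ((a : R) • x) = (a : R) • gproj 𝒞 j x
        rw [gproj_apply, gproj_apply, decompose_smul_of_mem 𝒞 a.2, sub_zero])
    let Λ : C →+ E' :=
      { toFun := fun x => ((f₀ (pr x) : GrLC.deg0 𝒜) : R) • e 1
        map_zero' := by
          have : pr 0 = 0 := Subtype.ext (by change gproj 𝒞 j 0 = 0; rw [map_zero])
          rw [this, map_zero]
          exact zero_smul R (e 1)
        map_add' := fun x y => by
          rw [hpr_add, map_add, ← add_smul]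
          rfl }
    have hΛdef : ∀ x, Λ x = ((f₀ (pr x) : GrLC.deg0 𝒜) : R) • e 1 := fun _ => rfl
    have hΛ0 : ∀ b, Λ b ∈ 𝓔 0 := by
      intro b
      have := SetLike.GradedSMul.smul_mem (A := 𝒜) (B := 𝓔) (f₀ (pr b)).2 he1
      rwa [vadd_eq_add, add_zero] at this
    have hΛne : ∀ l : ℤ, l ≠ - -j → ∀ b ∈ 𝒞 l, Λ b = 0 := by
      intro l hl b hb
      rw [neg_neg] at hl
      have : pr b = 0 := Subtype.ext (by
        change gproj 𝒞 j b = 0
        rw [gproj_apply, DirectSum.decompose_of_mem_ne 𝒞 hb hl])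
      rw [hΛdef, this, map_zero]
      exact zero_smul R (e 1)
    have hΛlin : ∀ a ∈ 𝒜 0, ∀ b, Λ (a • b) = a • Λ b := by
      intro a ha b
      rw [hΛdef, hΛdef, hpr_smul ⟨a, ha⟩, map_smul, ← mul_smul]
      rfl
    obtain ⟨u, hu, huΛ⟩ := hPerf.exists_hom_deg 𝒞 (-j) Λ hΛ0 hΛne hΛlin
    have h1 : u c ∈ 𝓔 0 := by
      have := hu j c hc
      rwa [add_neg_cancel] at this
    have h2 : u c = e 1 := by
      have h3 := huΛ c 1
      rw [one_smul, one_smul, gp0_of_mem_zero 𝓔 h1, hΛdef] at h3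
      have h4 : pr c = cbar := Subtype.ext (by
        change gproj 𝒞 j c = c
        rw [gproj_apply, DirectSum.decompose_of_mem_same 𝒞 hc])
      rw [h3, h4, hf₀]
      exact one_smul R (e 1)
    have h5 : Φ u ∈ 𝓗 (-j) := hΦ (-j) u hu
    have h6 := hall (Φ u) h5
    rw [hPdef, LinearEquiv.symm_apply_apply, h2, hco_one] at h6
    apply hc0
    rw [← one_smul R c, h6, zero_smul]

end Main

end Groth.Agent.H98.Ver
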