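import Groth.Agent.H98.Ver.Ring
import Groth.Agent.H98.GrStar.LCAcyc
import Groth.Agent.H58.LCIndep2

set_option autoImplicit false
set_option linter.unusedSectionVars false
set_option linter.style.haveILetI false
universe u

/-!
# The Veronese module of a *injective module is acyclic for `Γ_{a'}` over the Veronese subring
-/

namespace Groth.Agent.H98.Ver

open DirectSum CategoryTheory Groth.Agent.H98.GrStar

variable {R : Type u} [CommRing R] {𝒜 : ℤ → AddSubgroup R} [GradedRing 𝒜]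
variable {R' : Type u} [CommRing R'] {𝒜' : ℤ → AddSubgroup R'} [GradedRing 𝒜']
variable {φ : R' →+* R} {q : ℕ} (hv : IsVer 𝒜 𝒜' φ q)
variable {X : Type u} [AddCommGroup X] [Module R X] (𝒳 : ℤ → AddSubgroup X)
  [DirectSum.Decomposition 𝒳] [SetLike.GradedSMul 𝒜 𝒳]

/-- the projection onto the Veronese submodule, an `R'`-linear retraction of the inclusion -/
noncomputable def verProj : letI := modR' φ X; X →ₗ[R'] ↥(verSub hv 𝒳) :=
  letI := modR' φ X
  { toFun := fun x => ⟨verP q 𝒳 x, verP_mem_verSub hv 𝒳 x⟩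
    map_add' := fun x y => Subtype.ext (map_add (verP q 𝒳) x y)
    map_smul' := fun c x => Subtype.ext (verP_smul_φ 𝒳 hv c x) }

theorem verProj_coe (x : X) : ((verProj hv 𝒳 x : ↥(verSub hv 𝒳)) : X) = verP q 𝒳 x := rfl

theorem verProj_subtype (y : ↥(verSub hv 𝒳)) : verProj hv 𝒳 (y : X) = y := Subtype.ext y.2

/-- **Acyclicity**: the Veronese module of a *injective `R`-module is `Γ_{a'}`-acyclic over `R'` -/
theorem locCoh_subsingleton_ver [IsNoetherianRing R] [IsNoetherianRing R']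
    (hX : GrLC.IsStarInj 𝒜 𝒳) (a' : HomogeneousIdeal 𝒜') (j : ℕ) :
    Subsingleton (LocCoh.H a'.toIdeal (j + 1) ↥(verSub hv 𝒳)) := by
  letI : Algebra R' R := φ.toAlgebra
  letI : Module R' X := modR' φ X
  haveI : IsScalarTower R' R X := ⟨fun c r x => by
    change (φ c * r) • x = φ c • (r • x)
    rw [mul_smul]⟩
  have h2 : Subsingleton (LocCoh.H (Ideal.map (algebraMap R' R) a'.toIdeal) (j + 1) X) :=
    locCoh_subsingleton_of_isStarInj 𝒜 𝒳 (mapHom hv a') hX (j + 1) (by omega)
  obtain ⟨ψ, _⟩ := Groth.Agent.H58.LC.indepProp (R := R') (R' := R) a'.toIdeal (j + 1) X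
  have h3 : Subsingleton (LocCoh.H a'.toIdeal (j + 1) X) := ψ.symm.toEquiv.subsingleton
  let inc : ↥(verSub hv 𝒳) →ₗ[R'] X := (verSub hv 𝒳).subtype
  let pr : X →ₗ[R'] ↥(verSub hv 𝒳) := verProj hv 𝒳
  have hcomp : ModuleCat.ofHom inc ≫ ModuleCat.ofHom pr = 𝟙 (ModuleCat.of R' ↥(verSub hv 𝒳)) := by
    ext y
    exact congrArg Subtype.val (verProj_subtype hv 𝒳 y)
  have key : ∀ z : LocCoh.H a'.toIdeal (j + 1) ↥(verSub hv 𝒳), z = 0 := by
    intro z
    have h4 : ((localCohomology a'.toIdeal (j + 1)).map (ModuleCat.ofHom pr)).hom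
        (((localCohomology a'.toIdeal (j + 1)).map (ModuleCat.ofHom inc)).hom z) = z := by
      rw [← ModuleCat.comp_apply, ← Functor.map_comp, hcomp, CategoryTheory.Functor.map_id]
      rfl
    rw [← h4, Subsingleton.elim
      (((localCohomology a'.toIdeal (j + 1)).map (ModuleCat.ofHom inc)).hom z) 0, map_zero]
  exact ⟨fun x y => (key x).trans (key y).symm⟩

end Groth.Agent.H98.Ver
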