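import Groth.Agent.H98.Ver.Res

set_option autoImplicit false
set_option linter.unusedSectionVars false
set_option linter.style.haveILetI false
universe u

/-!
# Graded local cohomology of a Veronese module

`H^p_{m'}(M^{(q)}) ≅ (H^p_m(M))^{(q)}`: for *injective resolutions `E` of `M` over `R` and `F` of the
Veronese module `M'` over the Veronese subring `R'`, there is an injective `φ`-semilinear map
`F.H m' p → E.H m p` carrying the piece of degree `j` onto the piece of degree `j q`.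
-/

namespace Groth.Agent.H98.Ver

open DirectSum CategoryTheory Groth.Agent.H98.GrStar Groth.Agent.H98.LCRes

variable {R : Type u} [CommRing R] {𝒜 : ℤ → AddSubgroup R} [GradedRing 𝒜]
variable {R' : Type u} [CommRing R'] {𝒜' : ℤ → AddSubgroup R'} [GradedRing 𝒜']
variable {φ : R' →+* R} {q : ℕ} (hv : IsVer 𝒜 𝒜' φ q)

section Torsion

variable {X : Type u} [AddCommGroup X] [Module R X] (𝒳 : ℤ → AddSubgroup X)
  [DirectSum.Decomposition 𝒳] [SetLike.GradedSMul 𝒜 𝒳]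
variable (m : Ideal R) (m' : Ideal R')

theorem coe_mem_gam_of_mem_gam (hpow : ∃ N : ℕ, m ^ N ≤ Ideal.map φ m') (y : ↥(verSub hv 𝒳))
    (hy : y ∈ GrLC.gam m' ↥(verSub hv 𝒳)) : (y : X) ∈ GrLC.gam m X := by
  obtain ⟨N, hN⟩ := hpow
  obtain ⟨n, hn⟩ := hy
  refine ⟨N * n, fun r hr => ?_⟩
  have h1 : r ∈ Ideal.map φ (m' ^ n) := by
    rw [Ideal.map_pow]
    rw [pow_mul] at hr
    exact Ideal.pow_right_mono hN n hr
  refine Submodule.span_induction (p := fun r _ => r • (y : X) = 0) ?_ ?_ ?_ ?_ h1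
  · rintro _ ⟨c, hc, rfl⟩
    have := congrArg Subtype.val (hn c hc)
    exact this
  · exact zero_smul _ _
  · intro a b _ _ ha hb
    rw [add_smul, ha, hb, add_zero]
  · intro s a _ ha
    rw [smul_eq_mul, mul_smul, ha, smul_zero]

theorem mem_gam_of_coe_mem_gam (hle : Ideal.map φ m' ≤ m) (y : ↥(verSub hv 𝒳))
    (hy : (y : X) ∈ GrLC.gam m X) : y ∈ GrLC.gam m' ↥(verSub hv 𝒳) := by
  obtain ⟨n, hn⟩ := hy
  refine ⟨n, fun c hc => Subtype.ext ?_⟩
  change φ c • (y : X) = 0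
  apply hn
  have h1 : φ c ∈ Ideal.map φ (m' ^ n) := Ideal.mem_map_of_mem φ hc
  rw [Ideal.map_pow] at h1
  exact Ideal.pow_right_mono hle n h1

omit [SetLike.GradedSMul 𝒜 𝒳] in
theorem verP_mem_of_isHomogeneous (P : Submodule R X) (hP : P.IsHomogeneous 𝒳) {x : X} (hx : x ∈ P) :
    verP q 𝒳 x ∈ P := by
  classical
  rw [← DirectSum.sum_support_decompose 𝒳 (verP q 𝒳 x)]
  apply Submodule.sum_mem
  intro l _
  rw [decompose_verP]
  split_ifs
  · exact hP l hx
  · exact P.zero_mem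

end Torsion

section Main

variable [IsNoetherianRing R] [IsNoetherianRing R']
variable {M : Type u} [AddCommGroup M] [Module R M] {ℳ : ℤ → AddSubgroup M}
  [DirectSum.Decomposition ℳ] [SetLike.GradedSMul 𝒜 ℳ]
variable {M' : Type u} [AddCommGroup M'] [Module R' M'] {ℳ' : ℤ → AddSubgroup M'}
  [DirectSum.Decomposition ℳ'] [SetLike.GradedSMul 𝒜' ℳ']
variable (g : M' →ₛₗ[φ] M) (hg : Function.Injective g)
  (hgdeg : ∀ j : ℤ, (ℳ' j).map (g : M' →+ M) = ℳ (j * q))
variable (E : GrLC.StarInjRes 𝒜 ℳ)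
variable (m : HomogeneousIdeal 𝒜) (m' : HomogeneousIdeal 𝒜')
  (hle : Ideal.map φ m'.toIdeal ≤ m.toIdeal)
  (hpow : ∃ N : ℕ, m.toIdeal ^ N ≤ Ideal.map φ m'.toIdeal)

/-- the underlying element of a cocycle of the Veronese resolution -/
def cocycVal (p : ℕ) (z : ↥((verRes hv g hg hgdeg E m').toAcycRes.cocyc p)) :
    ↥(verSub hv (E.X p).gr) := z.1

include hpow in
/-- cocycles of the Veronese resolution are cocycles of `E` -/
theorem coe_mem_cocyc (p : ℕ) (z : ↥((verRes hv g hg hgdeg E m').toAcycRes.cocyc p)) :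
    (cocycVal hv g hg hgdeg E m' p z : (E.X p).carrier) ∈ E.cocyc m p := by
  refine ⟨coe_mem_gam_of_mem_gam hv (E.X p).gr m.toIdeal m'.toIdeal hpow
    (cocycVal hv g hg hgdeg E m' p z) z.2.1, ?_⟩
  have := congrArg Subtype.val z.2.2
  exact this

/-- the comparison map on cocycles -/
noncomputable def cocycMap (p : ℕ) : ↥((verRes hv g hg hgdeg E m').toAcycRes.cocyc p) →ₛₗ[φ] E.H m p where
  toFun z := E.toH m p ⟨_, coe_mem_cocyc hv g hg hgdeg E m m' hpow p z⟩
  map_add' a b := by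
    rw [← map_add]
    rfl
  map_smul' c a := by
    rw [← map_smul]
    rfl

include hpow in
theorem cocycMap_ker_le (p : ℕ) :
    (((verRes hv g hg hgdeg E m').toAcycRes.cobdy p).comap
      ((verRes hv g hg hgdeg E m').toAcycRes.cocyc p).subtype) ≤
      LinearMap.ker (cocycMap hv g hg hgdeg E m m' hpow p) := by
  intro z hz
  change E.toH m p ⟨_, coe_mem_cocyc hv g hg hgdeg E m m' hpow p z⟩ = 0
  rw [Submodule.mkQ_apply, Submodule.Quotient.mk_eq_zero]
  change (cocycVal hv g hg hgdeg E m' p z : (E.X p).carrier) ∈ E.cobdy m p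
  cases p with
  | zero =>
    have h1 : cocycVal hv g hg hgdeg E m' 0 z = 0 := (Submodule.mem_bot R').1 hz
    rw [h1]
    exact Submodule.zero_mem _
  | succ k =>
    obtain ⟨(w : ↥(verSub hv (E.X k).gr)), hw, hwz⟩ := hz
    refine ⟨(w : (E.X k).carrier),
      coe_mem_gam_of_mem_gam hv (E.X k).gr m.toIdeal m'.toIdeal hpow w hw, ?_⟩
    have := congrArg Subtype.val hwz
    exact this

/-- the comparison map `H^p(Γ_{m'}(ver E)) → H^p_m(M)` -/
noncomputable def Ψ (p : ℕ) : (verRes hv g hg hgdeg E m').H p →ₛₗ[φ] E.H m p :=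
  Submodule.liftQ _ (cocycMap hv g hg hgdeg E m m' hpow p) (cocycMap_ker_le hv g hg hgdeg E m m' hpow p)

include hpow in
theorem Ψ_toH (p : ℕ) (z : ↥((verRes hv g hg hgdeg E m').toAcycRes.cocyc p)) :
    Ψ hv g hg hgdeg E m m' hpow p ((verRes hv g hg hgdeg E m').toAcycRes.toH p z) =
      E.toH m p ⟨_, coe_mem_cocyc hv g hg hgdeg E m m' hpow p z⟩ := rfl

include hle hpow in
theorem Ψ_injective (p : ℕ) : Function.Injective (Ψ hv g hg hgdeg E m m' hpow p) := by
  rw [← LinearMap.ker_eq_bot, LinearMap.ker_eq_bot']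
  intro x hx
  obtain ⟨z, rfl⟩ := (verRes hv g hg hgdeg E m').toAcycRes.toH_surjective p x
  rw [Ψ_toH, Submodule.mkQ_apply, Submodule.Quotient.mk_eq_zero] at hx
  have hx' : (cocycVal hv g hg hgdeg E m' p z : (E.X p).carrier) ∈ E.cobdy m p := hx
  rw [Submodule.mkQ_apply, Submodule.Quotient.mk_eq_zero]
  change cocycVal hv g hg hgdeg E m' p z ∈ (verRes hv g hg hgdeg E m').toAcycRes.cobdy p
  cases p with
  | zero =>
    have h1 : (cocycVal hv g hg hgdeg E m' 0 z : (E.X 0).carrier) = 0 :=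
      (Submodule.mem_bot R).1 hx'
    have h2 : cocycVal hv g hg hgdeg E m' 0 z = 0 := Subtype.ext h1
    rw [h2]
    exact Submodule.zero_mem _
  | succ k =>
    obtain ⟨w, hw, hwz⟩ := hx'
    have hw' : verP q (E.X k).gr w ∈ GrLC.gam m.toIdeal (E.X k).carrier :=
      verP_mem_of_isHomogeneous (E.X k).gr _ (gam_isHomogeneous 𝒜 (E.X k).gr m) hw
    refine ⟨⟨verP q (E.X k).gr w, verP_mem_verSub hv (E.X k).gr w⟩,
      mem_gam_of_coe_mem_gam hv (E.X k).gr m.toIdeal m'.toIdeal hle _ hw', Subtype.ext ?_⟩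
    change E.d k (verP q (E.X k).gr w) = _
    rw [← verP_grHom (E.X k).gr (E.X (k + 1)).gr (E.d k) (E.d_grHom k), hwz]
    exact (cocycVal hv g hg hgdeg E m' (k + 1) z).2

include hpow in
theorem Ψ_mem (p : ℕ) (j : ℤ) (x : (verRes hv g hg hgdeg E m').H p)
    (hx : x ∈ (verRes hv g hg hgdeg E m').Hgr p j) :
    Ψ hv g hg hgdeg E m m' hpow p x ∈ E.Hgr m p (j * q) := by
  obtain ⟨z, hz, rfl⟩ := hx
  exact ⟨⟨_, coe_mem_cocyc hv g hg hgdeg E m m' hpow p z⟩, hz, rfl⟩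

include hle hpow in
theorem exists_Ψ_eq (p : ℕ) (j : ℤ) (y : E.H m p) (hy : y ∈ E.Hgr m p (j * q)) :
    ∃ x ∈ (verRes hv g hg hgdeg E m').Hgr p j, Ψ hv g hg hgdeg E m m' hpow p x = y := by
  obtain ⟨w, hw, rfl⟩ := hy
  have hwv : (w : (E.X p).carrier) ∈ verSub hv (E.X p).gr := mem_verSub_of_mem hv (E.X p).gr hw
  let w' : ↥(verSub hv (E.X p).gr) := ⟨w, hwv⟩
  have hw'c : w' ∈ (verRes hv g hg hgdeg E m').toAcycRes.cocyc p := by
    refine ⟨mem_gam_of_coe_mem_gam hv (E.X p).gr m.toIdeal m'.toIdeal hle w' w.2.1, ?_⟩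
    apply Subtype.ext
    exact w.2.2
  exact ⟨(verRes hv g hg hgdeg E m').toAcycRes.toH p ⟨w', hw'c⟩, ⟨⟨w', hw'c⟩, hw, rfl⟩, rfl⟩

include hv hg hgdeg hle hpow in
/-- **Graded local cohomology of Veronese modules**: `H^p_{m'}(M^{(q)}) ≅ (H^p_m(M))^{(q)}`. -/
theorem exists_semilinear (F : GrLC.StarInjRes 𝒜' ℳ') (p : ℕ) :
    ∃ Θ : F.H m' p →ₛₗ[φ] E.H m p, Function.Injective Θ ∧
      ∀ j : ℤ, (F.Hgr m' p j).map (Θ : F.H m' p →+ E.H m p) = E.Hgr m p (j * q) := by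
  obtain ⟨e, he⟩ := (verRes hv g hg hgdeg E m').exists_equiv F p
  refine ⟨(Ψ hv g hg hgdeg E m m' hpow p).comp (e.symm : F.H m' p →ₗ[R'] _), ?_, ?_⟩
  · exact (Ψ_injective hv g hg hgdeg E m m' hle hpow p).comp e.symm.injective
  · intro j
    ext y
    constructor
    · rintro ⟨x, hx, rfl⟩
      apply Ψ_mem
      rw [he j]
      have : e ((e.symm : F.H m' p →ₗ[R'] _) x) = x := e.apply_symm_apply x
      rw [this]
      exact hx
    · intro hy
      obtain ⟨x, hx, rfl⟩ := exists_Ψ_eq hv g hg hgdeg E m m' hle hpow p j y hy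
      refine ⟨e x, (he j x).1 hx, ?_⟩
      change Ψ hv g hg hgdeg E m m' hpow p (e.symm (e x)) = _
      rw [LinearEquiv.symm_apply_apply]

end Main

end Groth.Agent.H98.Ver
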