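import Groth.Agent.H98.Ver.PerfHull

set_option autoImplicit false
set_option linter.unusedSectionVars false
set_option linter.style.haveILetI false
universe u

/-!
# The degree-zero part of `*E(R/R_+)` is `R_0 · e(1)`: the coordinate map
-/

namespace Groth.Agent.H98.Ver

open DirectSum Groth.Agent.H98.GrStar Groth.Agent.H98.Canon

variable {R : Type u} [CommRing R] (𝒜 : ℤ → AddSubgroup R) [GradedRing 𝒜]
  (hpos : ∀ n : ℤ, n < 0 → ∀ r ∈ 𝒜 n, r = 0) {m : HomogeneousIdeal 𝒜}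
  (hmsp : m.toIdeal = Ideal.span (⋃ n ∈ Set.Ioi (0 : ℤ), (𝒜 n : Set R)))
variable {E' : Type u} [AddCommGroup E'] [Module R E'] (𝓔 : ℤ → AddSubgroup E')
  [DirectSum.Decomposition 𝓔] [SetLike.GradedSMul 𝒜 𝓔]
  (e : (R ⧸ m.toIdeal) →ₗ[R] E')

theorem smul_e_one (a : R) : a • e 1 = e (Ideal.Quotient.mk m.toIdeal a) := by
  rw [← map_smul]
  congr 1
  rw [Algebra.smul_def, mul_one]
  rfl

include hpos hmsp in
theorem hull_gen_inj (he : GrLC.IsStarEss (GrLC.quotGr 𝒜 m) 𝓔 e) (a : R) (ha : a ∈ 𝒜 0)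
    (h : a • e 1 = 0) : a = 0 := by
  rw [smul_e_one] at h
  have h1 : Ideal.Quotient.mk m.toIdeal a = 0 := he.injective (by rw [h, map_zero])
  rw [Ideal.Quotient.eq_zero_iff_mem] at h1
  have h2 := irrel_le_geIdeal_one 𝒜 hpos m.toIdeal hmsp h1 0 (by norm_num)
  rw [DirectSum.decompose_of_mem_same 𝒜 ha] at h2
  exact h2

include hpos hmsp in
theorem hull_gen_surj [m.toIdeal.IsMaximal] (he : GrLC.IsStarEss (GrLC.quotGr 𝒜 m) 𝓔 e) (x : E')
    (hx : x ∈ 𝓔 0) : ∃ a ∈ 𝒜 0, a • e 1 = x := by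
  have hkill : ∀ r ∈ m.toIdeal, r • x = 0 := by
    intro r hr
    rw [hmsp] at hr
    induction hr using Submodule.span_induction with
    | mem s hs =>
      simp only [Set.mem_iUnion, Set.mem_Ioi, SetLike.mem_coe, exists_prop] at hs
      obtain ⟨n, hn, hsn⟩ := hs
      apply hull_eq_zero_of_pos 𝒜 hpos hmsp 𝓔 e he (n + 0) (by omega)
      have := SetLike.GradedSMul.smul_mem (A := 𝒜) (B := 𝓔) hsn hx
      rwa [vadd_eq_add] at this
    | zero => rw [zero_smul]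
    | add a b _ _ ha hb => rw [add_smul, ha, hb, add_zero]
    | smul t s _ hs => rw [smul_eq_mul, mul_smul, hs, smul_zero]
  obtain ⟨k, hk⟩ := mem_range_of_smul_eq_zero 𝒜 𝓔 m e he x hkill
  obtain ⟨s, rfl⟩ := Ideal.Quotient.mk_surjective k
  refine ⟨(decompose 𝒜 s 0 : R), SetLike.coe_mem _, ?_⟩
  rw [smul_e_one, ← hk]
  congr 1
  rw [Ideal.Quotient.eq]
  have := sub_decompose_zero_mem 𝒜 hpos hmsp s
  rw [← neg_sub]
  exact neg_mem this

include hpos hmsp in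
/-- the coordinate of the degree-zero component with respect to the generator `e 1` -/
theorem exists_coord [m.toIdeal.IsMaximal] (he : GrLC.IsStarEss (GrLC.quotGr 𝒜 m) 𝓔 e) :
    ∃ co : E' →+ R, (∀ x, co x ∈ 𝒜 0) ∧ (∀ x, co x • e 1 = gp0 𝓔 x) ∧
      (∀ a ∈ 𝒜 0, ∀ x, co (a • x) = a * co x) := by
  have hex : ∀ x : E', ∃ a : R, a ∈ 𝒜 0 ∧ a • e 1 = gp0 𝓔 x := by
    intro x
    obtain ⟨a, ha, h⟩ := hull_gen_surj 𝒜 hpos hmsp 𝓔 e he (gp0 𝓔 x) (gp0_mem 𝓔 x)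
    exact ⟨a, ha, h⟩
  choose F hF0 hF using hex
  have huniq : ∀ (x : E') (a : R), a ∈ 𝒜 0 → a • e 1 = gp0 𝓔 x → a = F x := by
    intro x a ha h
    have h1 : (a - F x) • e 1 = 0 := by rw [sub_smul, h, hF, sub_self]
    exact sub_eq_zero.1 (hull_gen_inj 𝒜 hpos hmsp 𝓔 e he _ (sub_mem ha (hF0 x)) h1)
  refine ⟨{ toFun := F, map_zero' := ?_, map_add' := ?_ }, hF0, hF, ?_⟩
  · symm
    apply huniq _ _ (zero_mem _)
    rw [zero_smul, map_zero]
  · intro x y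
    symm
    apply huniq _ _ (add_mem (hF0 x) (hF0 y))
    rw [add_smul, hF, hF, map_add]
  · intro a ha x
    symm
    apply huniq _ _ (by
      have := SetLike.GradedMul.mul_mem (A := 𝒜) ha (hF0 x)
      rwa [add_zero] at this)
    change (a * F x) • e 1 = gp0 𝓔 (a • x)
    rw [mul_smul, hF, gp0_smul_of_mem_zero (ℬ := 𝒜) 𝓔 ha]

end Groth.Agent.H98.Ver
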