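import Groth.Agent.H98.Ver.Coord
import Groth.Agent.H98.GrHt.StarLocalDim
import Groth.Agent.H81.HullPairing
import Groth.Agent.H81.StdPieces

set_option autoImplicit false
set_option linter.unusedSectionVars false
set_option linter.style.haveILetI false
universe u

/-!
# `*E(R/R_+)` is generated from any lower piece when `R` is standard graded of positive depth;
surjectivity of a graded map into `*E` that is surjective on a Veronese part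
-/

namespace Groth.Agent.H98.Ver

open DirectSum Groth.Agent.H98.GrStar Groth.Agent.H98.Canon Groth.Agent.H98.GrHt
  Groth.Agent.H98.Bass0 Groth.Agent.H81.HullPairing

variable {R : Type u} [CommRing R] [IsNoetherianRing R] (𝒜 : ℤ → AddSubgroup R) [GradedRing 𝒜]
  (hpos : ∀ n : ℤ, n < 0 → 𝒜 n = ⊥) (h0 : IsField (GrLC.deg0 𝒜))
  {m : HomogeneousIdeal 𝒜} (hm : GrLC.IsStarLocal 𝒜 m)
  (hmsp : m.toIdeal = Ideal.span (⋃ n ∈ Set.Ioi (0 : ℤ), (𝒜 n : Set R)))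
  (hstd : Ideal.span (⋃ n ∈ Set.Ioi (0 : ℤ), (𝒜 n : Set R)) =
    Ideal.span ((𝒜 1 : AddSubgroup R) : Set R))
variable {E' : Type u} [AddCommGroup E'] [Module R E'] (𝓔 : ℤ → AddSubgroup E')
  [DirectSum.Decomposition 𝓔] [SetLike.GradedSMul 𝒜 𝓔]
  (e : (R ⧸ m.toIdeal) →ₗ[R] E') (he : GrLC.IsStarInjHull 𝒜 (GrLC.quotGr 𝒜 m) 𝓔 e)
  (hΓ : ∀ x : R, (∃ N : ℕ, ∀ r ∈ m.toIdeal ^ N, r * x = 0) → x = 0)

include hpos h0 hm hmsp hstd he hΓ in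
/-- `E_{-d} ⊆ R · E_{-(d+t)}` -/
theorem hull_piece_le_span (d : ℤ) (t : ℕ) (y : E') (hy : y ∈ 𝓔 (-d)) :
    y ∈ Submodule.span R ((𝓔 (-(d + t)) : AddSubgroup E') : Set E') := by
  classical
  letI : Field (GrLC.deg0 𝒜) := h0.toField
  have hne : m.toIdeal ≠ ⊤ := ne_top_of_isStarLocal 𝒜 hm
  haveI hfinE : Module.Finite (GrLC.deg0 𝒜) (GrLC.comp 𝒜 𝓔 (-d)) :=
    finite_hull 𝒜 hpos h0 hmsp 𝓔 e he hne d
  haveI hfinR : Module.Finite (GrLC.deg0 𝒜) (GrLC.comp 𝒜 𝒜 d) :=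
    Groth.Agent.H81.CanonPieces.finite_comp 𝒜 hpos h0 𝒜 d
  have hfr0 := finrank_zero 𝒜 hpos h0 hmsp 𝓔 e he hne
  haveI hfin0 : Module.Finite (GrLC.deg0 𝒜) (GrLC.comp 𝒜 𝓔 0) :=
    Module.finite_of_finrank_pos (by rw [hfr0]; exact Nat.one_pos)
  have he1 : e 1 ∈ 𝓔 0 := e_mem_zero 𝒜 (hpos_elt 𝒜 hpos) hmsp 𝓔 e he.toIsStarEss 1
  let ε₀ : GrLC.comp 𝒜 𝓔 0 := ⟨e 1, he1⟩
  have hε₀ : ε₀ ≠ 0 := by
    intro h
    have h1 : e 1 = 0 := congrArg Subtype.val h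
    exact e_one_ne_zero 𝒜 𝓔 e he hne h1
  set S : Submodule R E' := Submodule.span R ((𝓔 (-(d + t)) : AddSubgroup E') : Set E') with hS
  let W : Submodule (GrLC.deg0 𝒜) (GrLC.comp 𝒜 𝓔 (-d)) :=
    Submodule.comap (GrLC.comp 𝒜 𝓔 (-d)).subtype (S.restrictScalars (GrLC.deg0 𝒜))
  by_contra hyS
  have hW : W < ⊤ := by
    rw [lt_top_iff_ne_top]
    intro htop
    have : (⟨y, hy⟩ : GrLC.comp 𝒜 𝓔 (-d)) ∈ W := by rw [htop]; trivial
    exact hyS this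
  obtain ⟨f, hf0, hfW⟩ := Submodule.exists_le_ker_of_lt_top W hW
  let F : GrLC.comp 𝒜 𝓔 (-d) →ₗ[GrLC.deg0 𝒜] GrLC.comp 𝒜 𝓔 0 := f.smulRight ε₀
  -- `pairR d` is bijective
  have hinjR := pairR_injective 𝒜 hpos hm hmsp 𝓔 e he d
  have hdim : Module.finrank (GrLC.deg0 𝒜) (GrLC.comp 𝒜 𝒜 d) =
      Module.finrank (GrLC.deg0 𝒜)
        (GrLC.comp 𝒜 𝓔 (-d) →ₗ[GrLC.deg0 𝒜] GrLC.comp 𝒜 𝓔 0) := by
    rw [Module.finrank_linearMap, hfr0, mul_one, finrank_hull_eq 𝒜 hpos h0 hm hmsp 𝓔 e he hne d]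
  have hsurjR : Function.Surjective (pairR 𝒜 𝓔 d) := by
    have h9 := @LinearMap.injective_iff_surjective_of_finrank_eq_finrank (GrLC.deg0 𝒜)
      (GrLC.comp 𝒜 𝒜 d) _ _ _ (GrLC.comp 𝒜 𝓔 (-d) →ₗ[GrLC.deg0 𝒜] GrLC.comp 𝒜 𝓔 0) _ _ _ _ hdim
      (pairR 𝒜 𝓔 d)
    exact h9.1 hinjR
  obtain ⟨s, hs⟩ := hsurjR F
  have hsF : ∀ z : GrLC.comp 𝒜 𝓔 (-d), (s : R) • (z : E') = ((F z : GrLC.comp 𝒜 𝓔 0) : E') := by
    intro z
    rw [← hs]
    rfl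
  have hkill : ∀ r ∈ 𝒜 (t : ℤ), r * (s : R) = 0 := by
    intro r hr
    by_contra hrs
    have hmem : r * (s : R) ∈ 𝒜 ((t : ℤ) + d) := SetLike.GradedMul.mul_mem (A := 𝒜) hr s.2
    obtain ⟨x, hx, hxne⟩ := exists_mem_smul_ne_zero 𝒜 hpos hm hmsp 𝓔 e he hmem hrs
    have hx' : x ∈ 𝓔 (-(d + t)) := by
      have h1 : -((t : ℤ) + d) = -(d + t) := by ring
      rwa [h1] at hx
    have hrx : r • x ∈ 𝓔 (-d) := by
      have := SetLike.GradedSMul.smul_mem (A := 𝒜) (B := 𝓔) hr hx'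
      rw [vadd_eq_add] at this
      have h1 : (t : ℤ) + -(d + t) = -d := by ring
      rwa [h1] at this
    have hrxW : (⟨r • x, hrx⟩ : GrLC.comp 𝒜 𝓔 (-d)) ∈ W := by
      change r • x ∈ S
      exact S.smul_mem r (Submodule.subset_span hx')
    have hf : f ⟨r • x, hrx⟩ = 0 := hfW hrxW
    apply hxne
    rw [mul_comm, mul_smul]
    have h2 := hsF ⟨r • x, hrx⟩
    rw [h2]
    change ((f ⟨r • x, hrx⟩ • ε₀ : GrLC.comp 𝒜 𝓔 0) : E') = 0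
    rw [hf, zero_smul]
    rfl
  have hs0 : (s : R) = 0 :=
    Groth.Agent.H81.StdPieces.eq_zero_of_kill 𝒜 hpos h0 hmsp hstd hΓ (s : R) t hkill
  apply hf0
  apply LinearMap.ext
  intro z
  have h3 := hsF z
  rw [hs0, zero_smul] at h3
  have h4 : f z • ε₀ = 0 := Subtype.ext h3.symm
  rcases smul_eq_zero.1 h4 with h5 | h5
  · exact h5
  · exact absurd h5 hε₀

variable {H : Type u} [AddCommGroup H] [Module R H] (𝓗 : ℤ → AddSubgroup H)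
  [DirectSum.Decomposition 𝓗] [SetLike.GradedSMul 𝒜 𝓗]

include hpos h0 hm hmsp hstd he hΓ in
/-- a graded map into `*E` which is surjective on the Veronese part is surjective -/
theorem surjective_of_ver (q : ℕ) (hq : 0 < q) (b : ℤ) (hb : (q : ℤ) ∣ b) (u : H →ₗ[R] E')
    (hU1a : ∀ j : ℤ, (q : ℤ) ∣ j → ∀ x ∈ 𝓔 (j + -b), ∃ h ∈ 𝓗 j, u h = x) :
    Function.Surjective u := by
  classical
  have hq0 : (q : ℤ) ≠ 0 := by exact_mod_cast hq.ne'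
  have hpiece : ∀ i : ℤ, ∀ y ∈ 𝓔 i, y ∈ LinearMap.range u := by
    intro i y hy
    set d : ℤ := -i with hd
    have hy' : y ∈ 𝓔 (-d) := by rwa [hd, neg_neg]
    set t : ℕ := ((-d) % (q : ℤ)).toNat with ht
    have htt : (t : ℤ) = (-d) % (q : ℤ) := Int.toNat_of_nonneg (Int.emod_nonneg _ hq0)
    have hdvd : (q : ℤ) ∣ d + t := by
      have h1 := Int.emod_add_mul_ediv (-d) (q : ℤ)
      refine ⟨-((-d) / (q : ℤ)), ?_⟩
      rw [htt]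
      linarith
    have h2 := hull_piece_le_span 𝒜 hpos h0 hm hmsp hstd 𝓔 e he hΓ d t y hy'
    refine (Submodule.span_le.2 ?_) h2
    intro x hx
    have hj : (q : ℤ) ∣ b - (d + t) := dvd_sub hb hdvd
    have hx' : x ∈ 𝓔 (b - (d + t) + -b) := by
      have h3 : b - (d + t) + -b = -(d + t) := by ring
      rw [h3]
      exact hx
    obtain ⟨h, -, hh⟩ := hU1a _ hj x hx'
    exact ⟨h, hh⟩
  intro y
  rw [← LinearMap.mem_range, ← DirectSum.sum_support_decompose 𝓔 y]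
  exact Submodule.sum_mem _ (fun i _ => hpiece i _ (SetLike.coe_mem _))

end Groth.Agent.H98.Ver
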