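import Groth.Agent.H98.GrStar.HomComp
import Groth.Agent.H98.GrStar.SubQuot
import Groth.Agent.H98.GrStar.Self

set_option autoImplicit false
set_option linter.unusedSectionVars false
set_option linter.style.haveILetI false
universe u

/-!
# `Hom_R(J, R) = R` for a homogeneous ideal `J ⊇ m^l` when `*H^0_m(R) = *H^1_m(R) = 0`
-/

namespace Groth.Agent.H98.Ver

open DirectSum Groth.Agent.H98.GrStar

variable {R : Type u} [CommRing R] [IsNoetherianRing R] {𝒜 : ℤ → AddSubgroup R} [GradedRing 𝒜]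

/-- `Γ_m(R) = 0` when `*H^0_m(R) = 0` -/
theorem eq_zero_of_pow_mul_eq_zero (I : GrLC.StarInjRes 𝒜 𝒜) (m : HomogeneousIdeal 𝒜)
    (h0 : Subsingleton (I.H m 0)) (t : R) (N : ℕ) (ht : ∀ w ∈ m.toIdeal ^ N, w * t = 0) :
    t = 0 := by
  have h1 : I.ε t ∈ I.cocyc m 0 := by
    refine ⟨⟨N, fun w hw => ?_⟩, ?_⟩
    · rw [← map_smul, smul_eq_mul, ht w hw, map_zero]
    · rw [I.exact_zero]
      exact ⟨t, rfl⟩
  have h2 : I.toH m 0 ⟨I.ε t, h1⟩ = 0 := Subsingleton.elim _ _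
  have h3 := (Submodule.Quotient.mk_eq_zero _).1 h2
  have h4 : I.ε t = 0 := h3
  exact I.ε_injective (by rw [h4, map_zero])

/-- every linear map `J → R` is a multiplication when `*H^0_m(R) = *H^1_m(R) = 0` and `m^l ⊆ J` -/
theorem exists_mul_of_hom (I : GrLC.StarInjRes 𝒜 𝒜) (m : HomogeneousIdeal 𝒜)
    (h0 : Subsingleton (I.H m 0)) (h1 : Subsingleton (I.H m 1))
    (J : Ideal R) (hJ : J.IsHomogeneous 𝒜) (l : ℕ) (hl : m.toIdeal ^ l ≤ J) (f : J →ₗ[R] R) :
    ∃ r : R, ∀ y : J, f y = (y : R) * r := by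
  classical
  have hrange : (LinearMap.range (Submodule.subtype J)).IsHomogeneous (selfGr 𝒜) := by
    rw [Submodule.range_subtype]
    exact isHomogeneous_selfGr 𝒜 J hJ
  let A : GrLC.GMod.{u} 𝒜 := subGMod 𝒜 (selfGr 𝒜) (Submodule.subtype J)
    (Submodule.injective_subtype _) hrange
  let B : GrLC.GMod.{u} 𝒜 := GrLC.GMod.of 𝒜 R (selfGr 𝒜)
  haveI : Module.Finite R A.carrier :=
    Module.Finite.iff_fg.2 (IsNoetherian.noetherian J)
  let φ₀ : A.carrier →ₗ[R] (I.X 0).carrier := I.ε ∘ₗ f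
  obtain ⟨ψ, hψ⟩ := exists_extension 𝒜 (I.X 0).gr (I.starInj 0) B A (Submodule.subtype J)
    (subGMod_isGrHom 𝒜 (selfGr 𝒜) _ _ hrange) (Submodule.injective_subtype _) φ₀
  have hψy : ∀ y : J, ψ (y : R) = I.ε (f y) := fun y => LinearMap.congr_fun hψ y
  set z : (I.X 0).carrier := ψ (1 : R) with hz
  have hyz : ∀ y : J, (y : R) • z = I.ε (f y) := by
    intro y
    rw [← hψy, hz, ← map_smul]
    congr 1
    exact mul_one (y : R)
  have hd0ε : ∀ t : R, I.d 0 (I.ε t) = 0 := by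
    intro t
    have : I.ε t ∈ LinearMap.ker (I.d 0) := by rw [I.exact_zero]; exact ⟨t, rfl⟩
    exact this
  have hydz : ∀ y : J, (y : R) • I.d 0 z = 0 := by
    intro y
    rw [← map_smul, hyz, hd0ε]
  have hdz : I.d 0 z ∈ I.cocyc m 1 := by
    refine ⟨⟨l, fun w hw => hydz ⟨w, hl hw⟩⟩, ?_⟩
    rw [I.exact_succ 0]
    exact ⟨z, rfl⟩
  have h2 : I.toH m 1 ⟨I.d 0 z, hdz⟩ = 0 := Subsingleton.elim _ _
  have h3 := (Submodule.Quotient.mk_eq_zero _).1 h2
  have h4 : I.d 0 z ∈ I.cobdy m 1 := h3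
  obtain ⟨z', hz'gam, hz'⟩ := h4
  obtain ⟨N, hN⟩ := hz'gam
  have hker : z - z' ∈ LinearMap.ker (I.d 0) := by
    rw [LinearMap.mem_ker, map_sub, hz', sub_self]
  rw [I.exact_zero] at hker
  obtain ⟨r, hr⟩ := hker
  refine ⟨r, fun y => ?_⟩
  have ht : ∀ w ∈ m.toIdeal ^ N, w * (f y - (y : R) * r) = 0 := by
    intro w hw
    have hwy : w • y = (⟨w * (y : R), J.mul_mem_left w y.2⟩ : J) := rfl
    have h5 : I.ε (f (w • y)) = I.ε (w * (y : R) * r) := by
      rw [← hyz (w • y)]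
      have h6 : z = I.ε r + z' := by rw [hr]; abel
      rw [h6, smul_add, ← map_smul, smul_eq_mul]
      have h7 : ((w • y : J) : R) • z' = (y : R) • (w • z') := by
        rw [smul_smul]
        congr 1
        rw [hwy]
        exact mul_comm _ _
      rw [h7, hN w hw, smul_zero, add_zero]
      rfl
    have h8 := I.ε_injective h5
    rw [map_smul, smul_eq_mul] at h8
    rw [mul_sub, h8]
    ring
  have := eq_zero_of_pow_mul_eq_zero I m h0 _ N ht
  exact sub_eq_zero.1 this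

end Groth.Agent.H98.Ver
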