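import Groth.Agent.H98.Ver.Basic
import Mathlib.LinearAlgebra.PerfectPairing.Basic

set_option autoImplicit false
set_option linter.unusedSectionVars false
set_option linter.style.haveILetI false
universe u

/-!
# Representability of functionals by a pairing nondegenerate on two subspaces
-/

namespace Groth.Agent.H98.Ver

variable {R : Type u} [CommRing R] {𝒜 : ℤ → AddSubgroup R} [GradedRing 𝒜]
variable {X : Type u} [AddCommGroup X] [Module R X]
variable {Y : Type u} [AddCommGroup Y] [Module R Y]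

/-- a pairing `X × Y → R_0` that is nondegenerate on `X_s × Y_s` with `Y_s` finite-dimensional
represents every functional on `X_s` -/
theorem exists_repr_of_nondeg (h0 : IsField (GrLC.deg0 𝒜)) (P : X →+ Y →+ R)
    (hval : ∀ x y, P x y ∈ 𝒜 0)
    (hlinX : ∀ a ∈ 𝒜 0, ∀ x y, P (a • x) y = a * P x y)
    (hlinY : ∀ a ∈ 𝒜 0, ∀ x y, P x (a • y) = a * P x y)
    (Xs : Submodule (GrLC.deg0 𝒜) X) (Ys : Submodule (GrLC.deg0 𝒜) Y)
    (hndX : ∀ x ∈ Xs, (∀ y ∈ Ys, P x y = 0) → x = 0)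
    (hndY : ∀ y ∈ Ys, (∀ x ∈ Xs, P x y = 0) → y = 0)
    (hfin : letI : Field (GrLC.deg0 𝒜) := h0.toField
      Module.Finite (GrLC.deg0 𝒜) Ys)
    (lam : X →+ R) (hlam0 : ∀ x, lam x ∈ 𝒜 0) (hlamlin : ∀ a ∈ 𝒜 0, ∀ x, lam (a • x) = a * lam x) :
    ∃ y ∈ Ys, ∀ x ∈ Xs, P x y = lam x := by
  letI : Field (GrLC.deg0 𝒜) := h0.toField
  haveI := hfin
  let p : Xs →ₗ[GrLC.deg0 𝒜] Ys →ₗ[GrLC.deg0 𝒜] GrLC.deg0 𝒜 :=
    LinearMap.mk₂ (GrLC.deg0 𝒜) (fun x y => ⟨P (x : X) (y : Y), hval _ _⟩)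
      (fun x₁ x₂ y => Subtype.ext (by
        change P ((x₁ : X) + (x₂ : X)) (y : Y) = P (x₁ : X) (y : Y) + P (x₂ : X) (y : Y)
        rw [map_add, AddMonoidHom.add_apply]))
      (fun a x y => Subtype.ext (by
        change P ((a : R) • (x : X)) (y : Y) = (a : R) * P (x : X) (y : Y)
        exact hlinX _ a.2 _ _))
      (fun x y₁ y₂ => Subtype.ext (by
        change P (x : X) ((y₁ : Y) + (y₂ : Y)) = P (x : X) (y₁ : Y) + P (x : X) (y₂ : Y)
        rw [map_add]))
      (fun a x y => Subtype.ext (by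
        change P (x : X) ((a : R) • (y : Y)) = (a : R) * P (x : X) (y : Y)
        exact hlinY _ a.2 _ _))
  have hp : ∀ (x : Xs) (y : Ys), ((p x y : GrLC.deg0 𝒜) : R) = P (x : X) (y : Y) := fun _ _ => rfl
  have hinj : Function.Injective p := by
    rw [injective_iff_map_eq_zero]
    intro x hx
    apply Subtype.ext
    apply hndX _ x.2
    intro y hy
    have := congrArg (fun F => ((F ⟨y, hy⟩ : GrLC.deg0 𝒜) : R)) hx
    simpa [hp] using this
  have hinj' : Function.Injective p.flip := by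
    rw [injective_iff_map_eq_zero]
    intro y hy
    apply Subtype.ext
    apply hndY _ y.2
    intro x hx
    have := congrArg (fun F => ((F ⟨x, hx⟩ : GrLC.deg0 𝒜) : R)) hy
    simpa [hp] using this
  haveI : p.IsPerfPair := LinearMap.IsPerfPair.of_injective' hinj hinj'
  let lamk : Module.Dual (GrLC.deg0 𝒜) Xs :=
    { toFun := fun x => ⟨lam (x : X), hlam0 _⟩
      map_add' := fun x₁ x₂ => Subtype.ext (by
        change lam ((x₁ : X) + (x₂ : X)) = lam (x₁ : X) + lam (x₂ : X)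
        rw [map_add])
      map_smul' := fun a x => Subtype.ext (by
        change lam ((a : R) • (x : X)) = (a : R) * lam (x : X)
        exact hlamlin _ a.2 _) }
  refine ⟨(p.flip.toPerfPair.symm lamk : Ys), (p.flip.toPerfPair.symm lamk).2, ?_⟩
  intro x hx
  have := LinearMap.apply_toPerfPair_flip p lamk ⟨x, hx⟩
  exact congrArg (fun z : GrLC.deg0 𝒜 => (z : R)) this

end Groth.Agent.H98.Ver
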