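import Groth.Agent.H98.Ver.GorDown1
import Groth.Agent.H98.Ver.PerfGen
import Groth.Agent.H98.Ver.HomIdeal

set_option autoImplicit false
set_option linter.unusedSectionVars false
set_option linter.style.haveILetI false
universe u

/-!
# Injectivity of a graded map `H → *E(-b)` that is bijective on a Veronese part

`R` standard graded over a field with `*H^0_m(R) = *H^1_m(R) = 0`, `H = m H`.
-/

namespace Groth.Agent.H98.Ver

open DirectSum Groth.Agent.H98.GrStar Groth.Agent.H98.Canon Groth.Agent.H98.GrHt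
  Groth.Agent.H98.Bass0 Groth.Agent.H81.HullPairing

variable {R : Type u} [CommRing R] [IsNoetherianRing R] (𝒜 : ℤ → AddSubgroup R) [GradedRing 𝒜]
  (hpos : ∀ n : ℤ, n < 0 → 𝒜 n = ⊥) (h0 : IsField (GrLC.deg0 𝒜))
  {m : HomogeneousIdeal 𝒜} (hm : GrLC.IsStarLocal 𝒜 m)
  (hmsp : m.toIdeal = Ideal.span (⋃ n ∈ Set.Ioi (0 : ℤ), (𝒜 n : Set R)))
  (hstd : Ideal.span (⋃ n ∈ Set.Ioi (0 : ℤ), (𝒜 n : Set R)) =
    Ideal.span ((𝒜 1 : AddSubgroup R) : Set R))
variable {E' : Type u} [AddCommGroup E'] [Module R E'] (𝓔 : ℤ → AddSubgroup E')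
  [DirectSum.Decomposition 𝓔] [SetLike.GradedSMul 𝒜 𝓔]
  (e : (R ⧸ m.toIdeal) →ₗ[R] E') (he : GrLC.IsStarInjHull 𝒜 (GrLC.quotGr 𝒜 m) 𝓔 e)
variable {H : Type u} [AddCommGroup H] [Module R H] (𝓗 : ℤ → AddSubgroup H)
  [DirectSum.Decomposition 𝓗] [SetLike.GradedSMul 𝒜 𝓗]
variable (co : E' →+ R) (hco0 : ∀ x, co x ∈ 𝒜 0) (hco : ∀ x, co x • e 1 = gp0 𝓔 x)
  (hcolin : ∀ a ∈ 𝒜 0, ∀ x, co (a • x) = a * co x)
variable (b : ℤ) (u : H →ₗ[R] E') (hu : GrLC.IsGrHomDeg 𝓗 𝓔 u (-b))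

include hco in
omit [IsNoetherianRing R] [SetLike.GradedSMul 𝒜 𝓔] in
theorem eq_zero_of_co_eq_zero (x : E') (hx : x ∈ 𝓔 0) (h : co x = 0) : x = 0 := by
  rw [← gp0_of_mem_zero 𝓔 hx, ← hco, h, zero_smul]

include hpos hmsp he hco0 hco in
omit [IsNoetherianRing R] in
theorem co_eq_zero_of_mem_ne (j : ℤ) (hj : j ≠ 0) (x : E') (hx : x ∈ 𝓔 j) : co x = 0 := by
  apply hull_gen_inj 𝒜 (hpos_elt 𝒜 hpos) hmsp 𝓔 e he.toIsStarEss _ (hco0 x)
  rw [hco, gp0_of_mem_ne 𝓔 hj hx]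

include hpos hm hmsp he hco in
/-- uniqueness of the representing element -/
theorem eq_zero_of_forall_co (husurj : Function.Surjective u) (s : R)
    (hs : ∀ h : H, co (s • u h) = 0) : s = 0 := by
  classical
  apply eq_zero_of_decompose_eq_zero (selfGr 𝒜)
  intro d
  rw [decompose_selfGr]
  by_contra hne
  obtain ⟨x, hx, hxne⟩ := exists_mem_smul_ne_zero 𝒜 hpos hm hmsp 𝓔 e he
    (SetLike.coe_mem (decompose 𝒜 s d)) hne
  obtain ⟨h, rfl⟩ := husurj x
  apply hxne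
  have h1 := decompose_smul_of_right_mem 𝒜 𝓔 s hx d
  rw [add_neg_cancel] at h1
  rw [← h1]
  change gp0 𝓔 (s • u h) = 0
  rw [← hco, hs h, zero_smul]

include hpos hmsp he hco0 hco hu in
omit [IsNoetherianRing R] in
/-- extension of a representation from the piece of degree `j` to everything -/
theorem rep_of_rep_homog (c : H →+ R) (j : ℤ) (hsupp : ∀ h, c h = c (GrStar.gproj 𝓗 j h)) (r : R)
    (hr : r ∈ 𝒜 (b - j)) (hrep : ∀ h ∈ 𝓗 j, c h = co (r • u h)) :
    ∀ h, c h = co (r • u h) := by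
  intro h
  rw [hsupp h, hrep _ (GrStar.gproj_mem 𝓗 j h)]
  induction h using DirectSum.Decomposition.inductionOn 𝓗 with
  | zero => rw [map_zero]
  | @homogeneous i h =>
    by_cases hij : i = j
    · subst hij
      rw [GrStar.gproj_apply, DirectSum.decompose_of_mem_same 𝓗 h.2]
    · rw [GrStar.gproj_apply, DirectSum.decompose_of_mem_ne 𝓗 h.2 hij, map_zero, smul_zero, map_zero]
      symm
      have h1 : u (h : H) ∈ 𝓔 (i + -b) := hu i _ h.2
      have h2 : r • u (h : H) ∈ 𝓔 (b - j + (i + -b)) := by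
        have := SetLike.GradedSMul.smul_mem (A := 𝒜) (B := 𝓔) hr h1
        rwa [vadd_eq_add] at this
      exact co_eq_zero_of_mem_ne 𝒜 hpos hmsp 𝓔 e he co hco0 hco _ (by omega) _ h2
  | add x y hx hy => rw [map_add, map_add, smul_add, map_add, map_add, smul_add, map_add, hx, hy]

variable (q : ℕ)
  (hU1a : ∀ j : ℤ, (q : ℤ) ∣ j → ∀ x ∈ 𝓔 (j + -b), ∃ h ∈ 𝓗 j, u h = x)
  (hU1b : ∀ j : ℤ, (q : ℤ) ∣ j → ∀ h ∈ 𝓗 j, u h = 0 → h = 0)

include hpos h0 hm hmsp he hco0 hco hcolin hu hU1a hU1b in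
/-- functionals supported in a degree divisible by `q` are represented -/
theorem exists_rep_of_ver (c : H →+ R) (hc0 : ∀ h, c h ∈ 𝒜 0)
    (hclin : ∀ a ∈ 𝒜 0, ∀ h, c (a • h) = a * c h) (j : ℤ) (hj : (q : ℤ) ∣ j)
    (hsupp : ∀ h, c h = c (GrStar.gproj 𝓗 j h)) : ∃ r : R, ∀ h, c h = co (r • u h) := by
  classical
  have hpe := hpos_elt 𝒜 hpos
  have hess := he.toIsStarEss
  let P : H →+ R →+ R :=
    { toFun := fun h =>
        { toFun := fun r : R => co (r • u h)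
          map_zero' := by rw [zero_smul, map_zero]
          map_add' := fun (r r' : R) => by rw [add_smul, map_add] }
      map_zero' := by
        apply AddMonoidHom.ext
        intro (r : R)
        change co (r • u 0) = 0
        rw [map_zero, smul_zero, map_zero]
      map_add' := fun h h' => by
        apply AddMonoidHom.ext
        intro (r : R)
        change co (r • u (h + h')) = co (r • u h) + co (r • u h')
        rw [map_add, smul_add, map_add] }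
  have hPdef : ∀ h r, P h r = co (r • u h) := fun _ _ => rfl
  have hdeg : ∀ h ∈ 𝓗 j, u h ∈ 𝓔 (-(b - j)) := by
    intro h hh
    have := hu j h hh
    have h1 : j + -b = -(b - j) := by ring
    rwa [h1] at this
  have hdeg0 : ∀ h ∈ 𝓗 j, ∀ r ∈ 𝒜 (b - j), r • u h ∈ 𝓔 0 := by
    intro h hh r hr
    have := SetLike.GradedSMul.smul_mem (A := 𝒜) (B := 𝓔) hr (hdeg h hh)
    rwa [vadd_eq_add, add_neg_cancel] at this
  obtain ⟨r, hr, hrep⟩ := exists_repr_of_nondeg (𝒜 := 𝒜) h0 P (fun h r => hco0 _)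
    (fun a ha h r => by
      rw [hPdef, hPdef]
      have h1 : r • u (a • h) = a • (r • u h) := by rw [LinearMap.map_smul, smul_comm]
      rw [h1, hcolin a ha])
    (fun a ha h r => by
      rw [hPdef, hPdef]
      have h1 : (a • r) • u h = a • (r • u h) := by rw [smul_eq_mul, mul_smul]
      rw [h1, hcolin a ha])
    (GrLC.comp 𝒜 𝓗 j) (GrLC.comp 𝒜 𝒜 (b - j))
    (fun h hh hall => by
      apply hU1b j hj h hh
      apply hull_nondeg 𝒜 hpe hmsp 𝓔 e hess (b - j) _ (hdeg h hh)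
      intro r hr
      exact eq_zero_of_co_eq_zero 𝒜 𝓔 e co hco _ (hdeg0 h hh r hr) (hall r hr))
    (fun r hr hall => by
      by_contra hne
      obtain ⟨x, hx, hxne⟩ := exists_mem_smul_ne_zero 𝒜 hpos hm hmsp 𝓔 e he hr hne
      have hx' : x ∈ 𝓔 (j + -b) := by
        have h1 : j + -b = -(b - j) := by ring
        rwa [h1]
      obtain ⟨h, hh, rfl⟩ := hU1a j hj x hx'
      exact hxne (eq_zero_of_co_eq_zero 𝒜 𝓔 e co hco _ (hdeg0 h hh r hr) (hall h hh)))
    (Groth.Agent.H81.CanonPieces.finite_comp 𝒜 hpos h0 𝒜 (b - j)) c hc0 hclin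
  exact ⟨r, rep_of_rep_homog 𝒜 hpos hmsp 𝓔 e he 𝓗 co hco0 hco b u hu c j hsupp r hr
    (fun h hh => (hrep h hh).symm)⟩

omit [IsNoetherianRing R] in
theorem isHomogeneous_pow (J : Ideal R) (hJ : J.IsHomogeneous 𝒜) (l : ℕ) :
    (J ^ l).IsHomogeneous 𝒜 := by
  induction l with
  | zero =>
    rw [pow_zero, Ideal.one_eq_top]
    exact Ideal.IsHomogeneous.top 𝒜
  | succ l ih =>
    rw [pow_succ]
    exact ih.mul hJ

omit [IsNoetherianRing R] in
/-- in a standard graded ring `(R_+)^l ⊆ (R_l)` -/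
theorem pow_le_span_piece (J : Ideal R) (hJ : J = Ideal.span ((𝒜 1 : AddSubgroup R) : Set R))
    (l : ℕ) : J ^ l ≤ Ideal.span ((𝒜 (l : ℤ) : AddSubgroup R) : Set R) := by
  induction l with
  | zero =>
    rw [pow_zero, Ideal.one_eq_top]
    intro x _
    have h1 : (1 : R) ∈ Ideal.span ((𝒜 ((0 : ℕ) : ℤ) : AddSubgroup R) : Set R) :=
      Ideal.subset_span (by
        change (1 : R) ∈ 𝒜 ((0 : ℕ) : ℤ)
        rw [Nat.cast_zero]
        exact SetLike.GradedOne.one_mem)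
    rw [(Ideal.eq_top_iff_one _).2 h1]
    trivial
  | succ l ih =>
    rw [pow_succ]
    refine (Ideal.mul_mono ih (le_of_eq hJ)).trans ?_
    rw [Ideal.span_mul_span']
    apply Ideal.span_mono
    rintro _ ⟨x, hx, y, hy, rfl⟩
    have := SetLike.GradedMul.mul_mem (A := 𝒜) hx hy
    change x * y ∈ 𝒜 ((l + 1 : ℕ) : ℤ)
    rwa [Nat.cast_succ]

end Groth.Agent.H98.Ver
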