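import Groth.Agent.H98.Ver.GorDown2

set_option autoImplicit false
set_option linter.unusedSectionVars false
set_option linter.style.haveILetI false
universe u

/-!
# Injectivity of a graded map `H → *E(-b)` that is bijective on a Veronese part (continued)
-/

namespace Groth.Agent.H98.Ver

open DirectSum Groth.Agent.H98.GrStar Groth.Agent.H98.Canon Groth.Agent.H98.GrHt
  Groth.Agent.H98.Bass0 Groth.Agent.H81.HullPairing

variable {R : Type u} [CommRing R] [IsNoetherianRing R] (𝒜 : ℤ → AddSubgroup R) [GradedRing 𝒜]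
  (hpos : ∀ n : ℤ, n < 0 → 𝒜 n = ⊥) (h0 : IsField (GrLC.deg0 𝒜))
  {m : HomogeneousIdeal 𝒜} (hm : GrLC.IsStarLocal 𝒜 m)
  (hmsp : m.toIdeal = Ideal.span (⋃ n ∈ Set.Ioi (0 : ℤ), (𝒜 n : Set R)))
  (hstd : Ideal.span (⋃ n ∈ Set.Ioi (0 : ℤ), (𝒜 n : Set R)) =
    Ideal.span ((𝒜 1 : AddSubgroup R) : Set R))
variable {E' : Type u} [AddCommGroup E'] [Module R E'] (𝓔 : ℤ → AddSubgroup E')
  [DirectSum.Decomposition 𝓔] [SetLike.GradedSMul 𝒜 𝓔]
  (e : (R ⧸ m.toIdeal) →ₗ[R] E') (he : GrLC.IsStarInjHull 𝒜 (GrLC.quotGr 𝒜 m) 𝓔 e)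
variable {H : Type u} [AddCommGroup H] [Module R H] (𝓗 : ℤ → AddSubgroup H)
  [DirectSum.Decomposition 𝓗] [SetLike.GradedSMul 𝒜 𝓗]
variable (co : E' →+ R) (hco0 : ∀ x, co x ∈ 𝒜 0) (hco : ∀ x, co x • e 1 = gp0 𝓔 x)
  (hcolin : ∀ a ∈ 𝒜 0, ∀ x, co (a • x) = a * co x)
variable (b : ℤ) (u : H →ₗ[R] E') (hu : GrLC.IsGrHomDeg 𝓗 𝓔 u (-b))
variable (q : ℕ) (hq : 0 < q)
  (hU1a : ∀ j : ℤ, (q : ℤ) ∣ j → ∀ x ∈ 𝓔 (j + -b), ∃ h ∈ 𝓗 j, u h = x)
  (hU1b : ∀ j : ℤ, (q : ℤ) ∣ j → ∀ h ∈ 𝓗 j, u h = 0 → h = 0)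
variable (I : GrLC.StarInjRes 𝒜 𝒜) (hH0 : Subsingleton (I.H m 0)) (hH1 : Subsingleton (I.H m 1))
  (htop : m.toIdeal • (⊤ : Submodule R H) = ⊤) (husurj : Function.Surjective u)

include hpos h0 hm hmsp hstd he hco0 hco hcolin hu hq hU1a hU1b hH0 hH1 htop husurj in
/-- every functional supported in one degree is represented -/
theorem exists_rep (c : H →+ R) (hc0 : ∀ h, c h ∈ 𝒜 0)
    (hclin : ∀ a ∈ 𝒜 0, ∀ h, c (a • h) = a * c h) (i : ℤ)
    (hsupp : ∀ h, c h = c (GrStar.gproj 𝓗 i h)) : ∃ r₀ : R, ∀ h, c h = co (r₀ • u h) := by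
  classical
  have hq0 : (q : ℤ) ≠ 0 := by exact_mod_cast hq.ne'
  have hpowtop : ∀ l : ℕ, m.toIdeal ^ l • (⊤ : Submodule R H) = ⊤ := by
    intro l
    induction l with
    | zero => rw [pow_zero, Ideal.one_eq_top, Submodule.top_smul]
    | succ l ih => rw [pow_succ, mul_smul, htop, ih]
  set l' : ℕ := (i % (q : ℤ)).toNat with hl'
  have hl'' : (l' : ℤ) = i % (q : ℤ) := Int.toNat_of_nonneg (Int.emod_nonneg _ hq0)
  have hdvd : (q : ℤ) ∣ i - l' := by
    rw [hl'']
    exact Int.dvd_self_sub_emod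
  set J : Ideal R := m.toIdeal ^ l' with hJ
  have hJhom : J.IsHomogeneous 𝒜 := isHomogeneous_pow 𝒜 m.toIdeal m.isHomogeneous l'
  -- the ideal of representable translates
  let Sset : Ideal R :=
    { carrier := {y | ∃ r : R, ∀ h, c (y • h) = co (r • u h)}
      zero_mem' := ⟨0, fun h => by rw [zero_smul, zero_smul, map_zero, map_zero]⟩
      add_mem' := by
        rintro y y' ⟨r, hr⟩ ⟨r', hr'⟩
        exact ⟨r + r', fun h => by rw [add_smul, add_smul, map_add, map_add, hr, hr']⟩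
      smul_mem' := by
        rintro z y ⟨r, hr⟩
        refine ⟨z * r, fun h => ?_⟩
        have h1 : (z • y) • h = y • (z • h) := by rw [smul_eq_mul, mul_comm, mul_smul]
        have h2 : (z * r) • u h = r • u (z • h) := by
          rw [LinearMap.map_smul, mul_comm, mul_smul]
        rw [h1, hr, h2] }
  have hSmem : ∀ y, y ∈ Sset ↔ ∃ r : R, ∀ h, c (y • h) = co (r • u h) := fun _ => Iff.rfl
  -- pieces of degree `l'` are in `Sset`
  have hpiece : ∀ y ∈ 𝒜 (l' : ℤ), y ∈ Sset := by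
    intro y hy
    let cy : H →+ R := c.comp (DistribMulAction.toAddMonoidHom H y)
    have hcy : ∀ h, cy h = c (y • h) := fun _ => rfl
    obtain ⟨r, hr⟩ := exists_rep_of_ver 𝒜 hpos h0 hm hmsp 𝓔 e he 𝓗 co hco0 hco hcolin b u hu q
      hU1a hU1b cy (fun h => hc0 _)
      (fun a ha h => by rw [hcy, hcy, smul_comm, hclin a ha])
      (i - l') hdvd
      (fun h => by
        rw [hcy, hcy, hsupp (y • h)]
        congr 1
        rw [GrStar.gproj_apply, GrStar.gproj_apply, decompose_smul_of_mem 𝓗 hy])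
    exact ⟨r, hr⟩
  have hJS : J ≤ Sset := by
    refine (pow_le_span_piece 𝒜 m.toIdeal (hmsp.trans hstd) l').trans ?_
    exact Ideal.span_le.2 (fun y hy => hpiece y hy)
  -- the linear map `J → R`
  have hex : ∀ y : J, ∃ r : R, ∀ h, c ((y : R) • h) = co (r • u h) := fun y => hJS y.2
  choose F hF using hex
  have huniq : ∀ (y : J) (r : R), (∀ h, c ((y : R) • h) = co (r • u h)) → r = F y := by
    intro y r hr
    have h1 : r - F y = 0 := by
      apply eq_zero_of_forall_co 𝒜 hpos hm hmsp 𝓔 e he co hco u husurj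
      intro h
      rw [sub_smul, map_sub, ← hr h, ← hF y h, sub_self]
    exact sub_eq_zero.1 h1
  let f : J →ₗ[R] R :=
    { toFun := F
      map_add' := fun y y' => by
        symm
        apply huniq
        intro h
        rw [Submodule.coe_add, add_smul, add_smul, map_add, map_add, hF, hF]
      map_smul' := fun z y => by
        symm
        apply huniq
        intro h
        have h1 : ((z • y : J) : R) • h = (y : R) • (z • h) := by
          rw [Submodule.coe_smul, smul_eq_mul, mul_comm, mul_smul]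
        have h2 : ((RingHom.id R) z • F y) • u h = F y • u (z • h) := by
          rw [RingHom.id_apply, LinearMap.map_smul, smul_eq_mul, mul_comm, mul_smul]
        rw [h1, hF, h2] }
  obtain ⟨r₀, hr₀⟩ := exists_mul_of_hom I m hH0 hH1 J hJhom l' (le_of_eq hJ.symm) f
  have hFr : ∀ y : J, F y = (y : R) * r₀ := hr₀
  refine ⟨r₀, ?_⟩
  have htop' : J • (⊤ : Submodule R H) = ⊤ := hpowtop l'
  intro h
  have hmem : h ∈ J • (⊤ : Submodule R H) := by rw [htop']; trivial
  refine Submodule.smul_induction_on (p := fun h => c h = co (r₀ • u h)) hmem ?_ ?_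
  · intro y hy h' _
    have h1 := hF ⟨y, hy⟩ h'
    rw [hFr] at h1
    change c (y • h') = co (r₀ • u (y • h'))
    rw [h1, LinearMap.map_smul, mul_comm, mul_smul]
  · intro x y hx hy
    change c (x + y) = co (r₀ • u (x + y))
    rw [map_add, map_add, smul_add, map_add, hx, hy]

include hpos h0 hm hmsp hstd he hco0 hco hcolin hu hq hU1a hU1b hH0 hH1 htop husurj in
theorem injective_of_ver : Function.Injective u := by
  classical
  letI : Field (GrLC.deg0 𝒜) := h0.toField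
  rw [injective_iff_map_eq_zero]
  intro h huh
  apply eq_zero_of_decompose_eq_zero 𝓗
  intro i
  by_contra hne
  set hi : H := (DirectSum.decompose 𝓗 h i : H) with hhi
  have hmem : hi ∈ 𝓗 i := SetLike.coe_mem _
  have huhi : u hi = 0 := by
    have h1 := decompose_map_shift 𝓗 𝓔 u.toAddMonoidHom (-b)
      (fun j x hx => hu j x hx) h i
    have h2 : u.toAddMonoidHom h = 0 := huh
    rw [h2, DirectSum.decompose_zero] at h1
    exact h1.symm
  -- a functional with value `1` at `hi`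
  let cbar : GrLC.comp 𝒜 𝓗 i := ⟨hi, hmem⟩
  have hcbar : cbar ≠ 0 := fun h => hne (congrArg Subtype.val h)
  obtain ⟨f₀, hf₀⟩ : ∃ f₀ : GrLC.comp 𝒜 𝓗 i →ₗ[GrLC.deg0 𝒜] GrLC.deg0 𝒜, f₀ cbar = 1 := by
    have hinj : Function.Injective
        (LinearMap.toSpanSingleton (GrLC.deg0 𝒜) (GrLC.comp 𝒜 𝓗 i) cbar) := by
      intro a b hab
      simp only [LinearMap.toSpanSingleton_apply] at hab
      exact smul_left_injective (GrLC.deg0 𝒜) hcbar hab
    obtain ⟨g, hg⟩ := LinearMap.exists_leftInverse_of_injective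
      (LinearMap.toSpanSingleton (GrLC.deg0 𝒜) (GrLC.comp 𝒜 𝓗 i) cbar)
      (LinearMap.ker_eq_bot.mpr hinj)
    refine ⟨g, ?_⟩
    have := congrArg (fun F => F (1 : GrLC.deg0 𝒜)) hg
    simpa using this
  let pr : H → GrLC.comp 𝒜 𝓗 i := fun x => ⟨GrStar.gproj 𝓗 i x, GrStar.gproj_mem 𝓗 i x⟩
  have hpr_add : ∀ x y, pr (x + y) = pr x + pr y := fun x y =>
    Subtype.ext (by
      change GrStar.gproj 𝓗 i (x + y) = GrStar.gproj 𝓗 i x + GrStar.gproj 𝓗 i y
      rw [map_add])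
  have hpr_smul : ∀ (a : GrLC.deg0 𝒜) x, pr ((a : R) • x) = a • pr x := fun a x =>
    Subtype.ext (by
      change GrStar.gproj 𝓗 i ((a : R) • x) = (a : R) • GrStar.gproj 𝓗 i x
      rw [GrStar.gproj_apply, GrStar.gproj_apply, decompose_smul_of_mem 𝓗 a.2, sub_zero])
  let c : H →+ R :=
    { toFun := fun x => ((f₀ (pr x) : GrLC.deg0 𝒜) : R)
      map_zero' := by
        have : pr 0 = 0 := Subtype.ext (by change GrStar.gproj 𝓗 i 0 = 0; rw [map_zero])
        rw [this, map_zero]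
        rfl
      map_add' := fun x y => by
        rw [hpr_add, map_add]
        rfl }
  have hcdef : ∀ x, c x = ((f₀ (pr x) : GrLC.deg0 𝒜) : R) := fun _ => rfl
  have hc0 : ∀ x, c x ∈ 𝒜 0 := fun x => (f₀ (pr x)).2
  have hclin : ∀ a ∈ 𝒜 0, ∀ x, c (a • x) = a * c x := by
    intro a ha x
    rw [hcdef, hcdef, hpr_smul ⟨a, ha⟩, map_smul]
    rfl
  have hsupp : ∀ x, c x = c (GrStar.gproj 𝓗 i x) := by
    intro x
    rw [hcdef, hcdef]
    congr 2
    apply Subtype.ext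
    change GrStar.gproj 𝓗 i x = GrStar.gproj 𝓗 i (GrStar.gproj 𝓗 i x)
    rw [GrStar.gproj_apply, GrStar.gproj_apply,
      DirectSum.decompose_of_mem_same 𝓗 (SetLike.coe_mem _)]
  obtain ⟨r₀, hr₀⟩ := exists_rep 𝒜 hpos h0 hm hmsp hstd 𝓔 e he 𝓗 co hco0 hco hcolin b u hu q hq
    hU1a hU1b I hH0 hH1 htop husurj c hc0 hclin i hsupp
  have h1 : c hi = 0 := by rw [hr₀, huhi, smul_zero, map_zero]
  have h2 : c hi = 1 := by
    rw [hcdef]
    have h3 : pr hi = cbar := Subtype.ext (by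
      change GrStar.gproj 𝓗 i hi = hi
      rw [GrStar.gproj_apply, DirectSum.decompose_of_mem_same 𝓗 hmem])
    rw [h3, hf₀]
    rfl
  apply hne
  have h4 : (1 : R) = 0 := by rw [← h2, h1]
  rw [← one_smul R hi, h4, zero_smul]

end Groth.Agent.H98.Ver
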