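import Groth.Agent.H98.Ver.Gor
import Groth.Agent.H98.Ver.Coord

set_option autoImplicit false
set_option linter.unusedSectionVars false
set_option linter.style.haveILetI false
universe u

/-!
# The Veronese of `*E_R(R/R_+)` is a *injective hull of the residue field of the Veronese subring
-/

namespace Groth.Agent.H98.Ver

open DirectSum Groth.Agent.H98.GrStar Groth.Agent.H98.Canon Groth.Agent.H98.GrHt

variable {R : Type u} [CommRing R] {𝒜 : ℤ → AddSubgroup R} [GradedRing 𝒜]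
variable {R' : Type u} [CommRing R'] {𝒜' : ℤ → AddSubgroup R'} [GradedRing 𝒜']
variable {φ : R' →+* R} {q : ℕ}

theorem exists_isStarInjHull_ver (hv : IsVer 𝒜 𝒜' φ q) (hpos : ∀ n : ℤ, n < 0 → 𝒜 n = ⊥)
    (h0 : IsField (GrLC.deg0 𝒜)) {m : HomogeneousIdeal 𝒜} [hmax : m.toIdeal.IsMaximal]
    (hmsp : m.toIdeal = Ideal.span (⋃ n ∈ Set.Ioi (0 : ℤ), (𝒜 n : Set R)))
    (m' : HomogeneousIdeal 𝒜') [hmax' : m'.toIdeal.IsMaximal]
    (hm'sp : m'.toIdeal = Ideal.span (⋃ j ∈ Set.Ioi (0 : ℤ), (𝒜' j : Set R')))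
    {E' : Type u} [AddCommGroup E'] [Module R E'] (𝓔 : ℤ → AddSubgroup E')
    [DirectSum.Decomposition 𝓔] [SetLike.GradedSMul 𝒜 𝓔] (e : (R ⧸ m.toIdeal) →ₗ[R] E')
    (he : GrLC.IsStarInjHull 𝒜 (GrLC.quotGr 𝒜 m) 𝓔 e) :
    ∃ e' : (R' ⧸ m'.toIdeal) →ₗ[R'] ↥(verSub hv 𝓔),
      GrLC.IsStarInjHull 𝒜' (GrLC.quotGr 𝒜' m') (verGr hv 𝓔) e' ∧
        ∀ r' : R', ((e' (Ideal.Quotient.mk m'.toIdeal r') : ↥(verSub hv 𝓔)) : E') = φ r' • e 1 := by
  classical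
  have hpe := hpos_elt 𝒜 hpos
  have hess := he.toIsStarEss
  have he1 : e 1 ∈ 𝓔 0 := e_mem_zero 𝒜 hpe hmsp 𝓔 e hess 1
  have he1' : e 1 ∈ 𝓔 ((0 : ℤ) * q) := by rwa [zero_mul]
  have he1ne : e 1 ≠ 0 := by
    intro h
    have h1 : (1 : R ⧸ m.toIdeal) = 0 := hess.injective (by rw [h, map_zero])
    have h2 : (Ideal.Quotient.mk m.toIdeal 1) = 0 := h1
    rw [Ideal.Quotient.eq_zero_iff_mem] at h2
    exact hmax.ne_top ((Ideal.eq_top_iff_one _).mpr h2)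
  let ε : ↥(verSub hv 𝓔) := ⟨e 1, mem_verSub_of_mem hv 𝓔 he1'⟩
  let f₀ : R' →ₗ[R'] ↥(verSub hv 𝓔) := LinearMap.toSpanSingleton R' _ ε
  have hf₀ : ∀ r' : R', ((f₀ r' : ↥(verSub hv 𝓔)) : E') = φ r' • e 1 := fun _ => rfl
  have hle := map_irrel_le hv m hmsp m' hm'sp
  have hker : (m'.toIdeal : Submodule R' R') ≤ LinearMap.ker f₀ := by
    intro r' hr'
    rw [LinearMap.mem_ker]
    apply Subtype.ext
    rw [hf₀, smul_e_one]
    have h1 : φ r' ∈ m.toIdeal := hle (Ideal.mem_map_of_mem φ hr')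
    rw [(Ideal.Quotient.eq_zero_iff_mem).2 h1, map_zero]
    rfl
  let e' : (R' ⧸ m'.toIdeal) →ₗ[R'] ↥(verSub hv 𝓔) :=
    Submodule.liftQ (m'.toIdeal : Submodule R' R') f₀ hker
  have he' : ∀ r' : R', ((e' (Ideal.Quotient.mk m'.toIdeal r') : ↥(verSub hv 𝓔)) : E') =
      φ r' • e 1 := fun r' => hf₀ r'
  refine ⟨e', ⟨⟨?_, ?_, ?_⟩, isStarInj_ver_hull hv hpos h0 hmsp 𝓔 e he⟩, he'⟩
  · -- injective
    rw [injective_iff_map_eq_zero]
    intro x hx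
    obtain ⟨r', rfl⟩ := Ideal.Quotient.mk_surjective x
    by_contra hne
    have hr' : r' ∉ m'.toIdeal := fun h => hne ((Ideal.Quotient.eq_zero_iff_mem).2 h)
    obtain ⟨s', i', hi', hs'⟩ := Ideal.IsMaximal.exists_inv hmax' hr'
    have h1 : ((e' (Ideal.Quotient.mk m'.toIdeal (s' * r')) : ↥(verSub hv 𝓔)) : E') = 0 := by
      have h2 : Ideal.Quotient.mk m'.toIdeal (s' * r') =
          s' • Ideal.Quotient.mk m'.toIdeal r' := rfl
      rw [h2, map_smul, hx, smul_zero]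
      rfl
    have h3 : ((e' (Ideal.Quotient.mk m'.toIdeal i') : ↥(verSub hv 𝓔)) : E') = 0 := by
      rw [(Ideal.Quotient.eq_zero_iff_mem).2 hi', map_zero]
      rfl
    apply he1ne
    have h4 : ((e' (Ideal.Quotient.mk m'.toIdeal (s' * r' + i')) : ↥(verSub hv 𝓔)) : E') =
        e 1 := by
      rw [hs', he', map_one, one_smul]
    rw [← h4, map_add, map_add, Submodule.coe_add, h1, h3, add_zero]
  · -- homogeneous
    rintro j x ⟨r', hr', rfl⟩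
    change ((e' (Ideal.Quotient.mk m'.toIdeal r') : ↥(verSub hv 𝓔)) : E') ∈ 𝓔 (j * q)
    rw [he']
    have := SetLike.GradedSMul.smul_mem (A := 𝒜) (B := 𝓔) (hv.map_mem hr') he1
    rwa [vadd_eq_add, add_zero] at this
  · -- essential
    intro P' hP' hne
    obtain ⟨y, hyP, hy0⟩ := Submodule.exists_mem_ne_zero_of_ne_bot hne
    have hcomp : ∃ j : ℤ, (DirectSum.decompose (verGr hv 𝓔) y j : ↥(verSub hv 𝓔)) ≠ 0 := by
      by_contra hcon
      push Not at hcon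
      exact hy0 (eq_zero_of_decompose_eq_zero (verGr hv 𝓔) y hcon)
    obtain ⟨j, hj⟩ := hcomp
    set z : ↥(verSub hv 𝓔) := (DirectSum.decompose (verGr hv 𝓔) y j : ↥(verSub hv 𝓔)) with hz
    have hzP : z ∈ P' := hP' j hyP
    have hzmem : (z : E') ∈ 𝓔 (j * q) := (SetLike.coe_mem (DirectSum.decompose (verGr hv 𝓔) y j))
    have hz0 : (z : E') ≠ 0 := fun h => hj (Subtype.ext h)
    have hex : ∃ r ∈ 𝒜 (-(j * q)), r • (z : E') ≠ 0 := by
      by_contra hcon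
      push Not at hcon
      exact hz0 (hull_nondeg 𝒜 hpe hmsp 𝓔 e hess (-(j * q)) _ (by rwa [neg_neg]) hcon)
    obtain ⟨r, hr, hrz⟩ := hex
    have hr' : r ∈ 𝒜 (-j * q) := by rwa [neg_mul]
    obtain ⟨r', hr'mem, rfl⟩ := hv.exists_of_mem hr'
    have hmem0 : φ r' • (z : E') ∈ 𝓔 0 := by
      have := SetLike.GradedSMul.smul_mem (A := 𝒜) (B := 𝓔) hr hzmem
      rwa [vadd_eq_add, neg_add_cancel] at this
    obtain ⟨a, ha, hae⟩ := hull_gen_surj 𝒜 hpe hmsp 𝓔 e hess _ hmem0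
    obtain ⟨a', ha', rfl⟩ := hv.exists_of_mem (j := 0) (by rwa [zero_mul])
    intro hbot
    have h5 : r' • z ∈ P' ⊓ LinearMap.range e' := by
      refine ⟨P'.smul_mem r' hzP, Ideal.Quotient.mk m'.toIdeal a', ?_⟩
      apply Subtype.ext
      rw [he', hae]
      rfl
    rw [hbot, Submodule.mem_bot] at h5
    apply hrz
    have := congrArg (fun w : ↥(verSub hv 𝓔) => (w : E')) h5
    exact this

end Groth.Agent.H98.Ver
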