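import Groth.Agent.H98.Ver.MPair

set_option autoImplicit false
set_option linter.unusedSectionVars false
set_option linter.style.haveILetI false
universe u

/-!
# Comparison of graded Matlis pairings along a Veronese inclusion

Given Matlis pairings `P : H × C → R_0` over `R` and `P' : H' × C' → R'_0` over the Veronese subring
`R' = R^{(q)}`, and a `φ`-semilinear injection `Θ : H' → H` with `Θ(H'_j) = H_{jq}`, there is a
`φ`-semilinear injection `g : C' → C` with `g(C'_j) = C_{jq}`.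
-/

namespace Groth.Agent.H98.Ver

open DirectSum Groth.Agent.H98.GrStar

section InvFun

variable {A B : Type*} [AddGroup A] [AddGroup B] [Nonempty A] (f : A → B)
  (hadd : ∀ a b, f (a + b) = f a + f b) (hinj : Function.Injective f)
include hadd hinj

theorem invFun_add_of_mem_range {x y : B} (hx : x ∈ Set.range f) (hy : y ∈ Set.range f) :
    Function.invFun f (x + y) = Function.invFun f x + Function.invFun f y := by
  obtain ⟨a, rfl⟩ := hx
  obtain ⟨b, rfl⟩ := hy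
  rw [← hadd, Function.leftInverse_invFun hinj, Function.leftInverse_invFun hinj,
    Function.leftInverse_invFun hinj]

end InvFun

variable {R : Type u} [CommRing R] {𝒜 : ℤ → AddSubgroup R} [GradedRing 𝒜]
variable {R' : Type u} [CommRing R'] {𝒜' : ℤ → AddSubgroup R'} [GradedRing 𝒜']
variable {φ : R' →+* R} {q : ℕ} (hv : IsVer 𝒜 𝒜' φ q)
variable {H : Type u} [AddCommGroup H] [Module R H] {𝓗 : ℤ → AddSubgroup H}
  [DirectSum.Decomposition 𝓗] [SetLike.GradedSMul 𝒜 𝓗]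
variable {C : Type u} [AddCommGroup C] [Module R C] {𝒞 : ℤ → AddSubgroup C}
  [DirectSum.Decomposition 𝒞] [SetLike.GradedSMul 𝒜 𝒞]
variable {H' : Type u} [AddCommGroup H'] [Module R' H'] {𝓗' : ℤ → AddSubgroup H'}
  [DirectSum.Decomposition 𝓗'] [SetLike.GradedSMul 𝒜' 𝓗']
variable {C' : Type u} [AddCommGroup C'] [Module R' C'] {𝒞' : ℤ → AddSubgroup C'}
  [DirectSum.Decomposition 𝒞'] [SetLike.GradedSMul 𝒜' 𝒞']
variable {P : H →+ C →+ R} {P' : H' →+ C' →+ R'}
  (hP : MPair 𝒜 𝓗 𝒞 P) (hP' : MPair 𝒜' 𝓗' 𝒞' P')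
variable (Θ : H' →ₛₗ[φ] H) (hΘinj : Function.Injective Θ)
  (hΘ : ∀ j : ℤ, (𝓗' j).map (Θ : H' →+ H) = 𝓗 (j * q))
variable (h0 : IsField (GrLC.deg0 𝒜)) (h0' : IsField (GrLC.deg0 𝒜'))
  (hfin : ∀ j : ℤ, letI : Field (GrLC.deg0 𝒜) := h0.toField
    Module.Finite (GrLC.deg0 𝒜) (GrLC.comp 𝒜 𝒞 j))
  (hfin' : ∀ j : ℤ, letI : Field (GrLC.deg0 𝒜') := h0'.toField
    Module.Finite (GrLC.deg0 𝒜') (GrLC.comp 𝒜' 𝒞' j))

/-- the relation defining the comparison map -/
def MRel (𝒞 : ℤ → AddSubgroup C) [DirectSum.Decomposition 𝒞] (q : ℕ) (P : H →+ C →+ R)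
    (P' : H' →+ C' →+ R') (Θ : H' →ₛₗ[φ] H) (c' : C') (c : C) : Prop :=
  verP q 𝒞 c = c ∧ ∀ h' : H', P (Θ h') c = φ (P' h' c')

omit [DirectSum.Decomposition 𝓗] [SetLike.GradedSMul 𝒜 𝓗] [SetLike.GradedSMul 𝒜 𝒞]
  [DirectSum.Decomposition 𝓗'] [SetLike.GradedSMul 𝒜' 𝓗'] [DirectSum.Decomposition 𝒞']
  [SetLike.GradedSMul 𝒜' 𝒞'] in
theorem mrel_add {c'₁ c'₂ : C'} {c₁ c₂ : C} (h₁ : MRel 𝒞 q P P' Θ c'₁ c₁)
    (h₂ : MRel 𝒞 q P P' Θ c'₂ c₂) : MRel 𝒞 q P P' Θ (c'₁ + c'₂) (c₁ + c₂) := by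
  refine ⟨by rw [map_add, h₁.1, h₂.1], fun h' => ?_⟩
  rw [map_add, map_add, map_add, h₁.2, h₂.2]

omit [DirectSum.Decomposition 𝓗] [SetLike.GradedSMul 𝒜 𝓗]
  [DirectSum.Decomposition 𝓗'] [SetLike.GradedSMul 𝒜' 𝓗'] [DirectSum.Decomposition 𝒞']
  [SetLike.GradedSMul 𝒜' 𝒞'] in
include hv hP hP' in
theorem mrel_smul {c' : C'} {c : C} (h : MRel 𝒞 q P P' Θ c' c) (r' : R') :
    MRel 𝒞 q P P' Θ (r' • c') (φ r' • c) := by
  refine ⟨by rw [verP_smul_φ 𝒞 hv, h.1], fun h' => ?_⟩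
  have h1 : Θ (r' • h') = φ r' • Θ h' := map_smulₛₗ Θ r' h'
  rw [← hP.bal, ← h1, h.2, hP'.bal]

omit [DirectSum.Decomposition 𝓗] [SetLike.GradedSMul 𝒜 𝓗] [SetLike.GradedSMul 𝒜 𝒞]
  [DirectSum.Decomposition 𝓗'] [SetLike.GradedSMul 𝒜' 𝓗'] [DirectSum.Decomposition 𝒞']
  [SetLike.GradedSMul 𝒜' 𝒞'] in
include hP hΘ in
/-- an element of the Veronese part pairing trivially with the image of `Θ` is zero -/
theorem eq_zero_of_mrel_zero (c : C) (hc : verP q 𝒞 c = c) (h : ∀ h' : H', P (Θ h') c = 0) :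
    c = 0 := by
  apply eq_zero_of_decompose_eq_zero 𝒞
  intro i
  by_cases hi : (q : ℤ) ∣ i
  · obtain ⟨l, rfl⟩ := hi
    have hmem : (DirectSum.decompose 𝒞 c ((q : ℤ) * l) : C) ∈ 𝒞 (l * q) := by
      rw [mul_comm l]
      exact SetLike.coe_mem _
    have h1 := hP.nondegC (l * q) _ hmem
    rw [mul_comm l] at h1
    apply h1
    intro x hx
    rw [← hP.apply_eq_decompose ((q : ℤ) * l) x hx c]
    have hx' : x ∈ 𝓗 (-l * q) := by
      have h2 : -l * (q : ℤ) = -((q : ℤ) * l) := by ring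
      rwa [h2]
    rw [← hΘ (-l)] at hx'
    obtain ⟨h', -, rfl⟩ := hx'
    exact h h'
  · exact (verP_eq_self_iff q 𝒞 c).1 hc i hi

omit [DirectSum.Decomposition 𝓗] [SetLike.GradedSMul 𝒜 𝓗] [SetLike.GradedSMul 𝒜 𝒞]
  [DirectSum.Decomposition 𝓗'] [SetLike.GradedSMul 𝒜' 𝓗'] [DirectSum.Decomposition 𝒞']
  [SetLike.GradedSMul 𝒜' 𝒞'] in
include hP hΘ in
theorem mrel_unique {c' : C'} {c₁ c₂ : C} (h₁ : MRel 𝒞 q P P' Θ c' c₁)
    (h₂ : MRel 𝒞 q P P' Θ c' c₂) : c₁ = c₂ := by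
  have : c₁ - c₂ = 0 := by
    apply eq_zero_of_mrel_zero hP Θ hΘ
    · rw [map_sub, h₁.1, h₂.1]
    · intro h'
      rw [map_sub, h₁.2, h₂.2, sub_self]
  exact sub_eq_zero.1 this

include hv hP hP' hΘ hΘinj h0 hfin in
/-- existence of the related element for a homogeneous `c'` -/
theorem mrel_exists_homog (j : ℤ) (c' : C') (hc' : c' ∈ 𝒞' j) :
    ∃ c ∈ 𝒞 (j * q), MRel 𝒞 q P P' Θ c' c := by
  classical
  haveI : Nonempty H' := ⟨0⟩
  have hΘadd : ∀ a b : H', Θ (a + b) = Θ a + Θ b := fun a b => map_add Θ a b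
  have hleft : ∀ y : H', Function.invFun Θ (Θ y) = y := Function.leftInverse_invFun hΘinj
  have hrange : ∀ (l : ℤ) (x : H), x ∈ 𝓗 (l * q) → ∃ y ∈ 𝓗' l, Θ y = x := by
    intro l x hx
    rw [← hΘ l] at hx
    obtain ⟨y, hy, h⟩ := hx
    exact ⟨y, hy, h⟩
  have hgmem : ∀ h : H, gproj 𝓗 (-j * q) h ∈ Set.range Θ := by
    intro h
    obtain ⟨y, -, hy⟩ := hrange (-j) _ (gproj_mem 𝓗 (-j * q) h)
    exact ⟨y, hy⟩
  let lam : H →+ R :=
    { toFun := fun h => φ (P' (Function.invFun Θ (gproj 𝓗 (-j * q) h)) c')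
      map_zero' := by
        rw [map_zero, ← map_zero Θ, hleft, map_zero, AddMonoidHom.zero_apply, map_zero]
      map_add' := fun a b => by
        rw [map_add, invFun_add_of_mem_range Θ hΘadd hΘinj (hgmem a) (hgmem b), map_add,
          AddMonoidHom.add_apply, map_add] }
  have hlam : ∀ h, lam h = φ (P' (Function.invFun Θ (gproj 𝓗 (-j * q) h)) c') := fun _ => rfl
  have hlam0 : ∀ h, lam h ∈ 𝒜 0 := by
    intro h
    have := hv.map_mem (hP'.val0 (Function.invFun Θ (gproj 𝓗 (-j * q) h)) c')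
    rwa [zero_mul] at this
  have hlamlin : ∀ a ∈ 𝒜 0, ∀ h, lam (a • h) = a * lam h := by
    intro a ha h
    obtain ⟨a', ha', rfl⟩ := hv.exists_of_mem (j := 0) (by rwa [zero_mul])
    obtain ⟨y, -, hy⟩ := hrange (-j) _ (gproj_mem 𝓗 (-j * q) h)
    have h1 : gproj 𝓗 (-j * q) (φ a' • h) = φ a' • gproj 𝓗 (-j * q) h := by
      rw [gproj_apply, gproj_apply, decompose_smul_of_mem 𝓗 ha, sub_zero]
    rw [hlam, hlam, h1, ← hy, ← map_smulₛₗ Θ, hleft, hleft, hP'.lin0 a' ha', map_mul]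
  obtain ⟨c, hc, hcl⟩ := hP.exists_repr h0 (j * q) (hfin (j * q)) lam hlam0 hlamlin
  refine ⟨c, hc, verP_of_mem_dvd q 𝒞 hc (dvd_mul_left _ _), ?_⟩
  intro h'
  induction h' using DirectSum.Decomposition.inductionOn 𝓗' with
  | zero => rw [map_zero, map_zero, map_zero, AddMonoidHom.zero_apply, AddMonoidHom.zero_apply,
      map_zero]
  | @homogeneous l h' =>
    have hΘh : Θ (h' : H') ∈ 𝓗 (l * q) := by
      rw [← hΘ l]
      exact ⟨h', h'.2, rfl⟩
    by_cases hl : l = -j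
    · subst hl
      have h3 := hcl (Θ (h' : H')) (by rw [← neg_mul]; exact hΘh)
      rw [h3, hlam]
      have h4 : gproj 𝓗 (-j * q) (Θ (h' : H')) = Θ (h' : H') := by
        rw [gproj_apply, DirectSum.decompose_of_mem_same 𝓗 hΘh]
      rw [h4, hleft]
    · rw [hP.deg (l * q) (j * q) (fun h => hl (by
        have h5 : (l + j) * (q : ℤ) = 0 := by rw [add_mul]; exact h
        rcases mul_eq_zero.1 h5 with h6 | h6
        · omega
        · exact absurd h6 hv.q_ne_zero)) _ hΘh c hc,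
        hP'.deg l j (fun h => hl (by omega)) _ h'.2 c' hc', map_zero]
  | add a b ha hb => rw [map_add, map_add, map_add, AddMonoidHom.add_apply,
      AddMonoidHom.add_apply, map_add, ha, hb]

include hv hP hP' hΘ hΘinj h0 hfin in
theorem mrel_exists (c' : C') : ∃ c, MRel 𝒞 q P P' Θ c' c := by
  induction c' using DirectSum.Decomposition.inductionOn 𝒞' with
  | zero =>
    refine ⟨0, map_zero _, fun h' => ?_⟩
    rw [map_zero, map_zero, map_zero]
  | @homogeneous j c' =>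
    obtain ⟨c, -, hc⟩ := mrel_exists_homog hv hP hP' Θ hΘinj hΘ h0 hfin j c' c'.2
    exact ⟨c, hc⟩
  | add a b ha hb =>
    obtain ⟨x, hx⟩ := ha
    obtain ⟨y, hy⟩ := hb
    exact ⟨x + y, mrel_add Θ hx hy⟩

include hv hP hP' hΘ h0' hfin' in
/-- every homogeneous element of the Veronese part is related to a homogeneous element -/
theorem mrel_exists_preimage (j : ℤ) (c : C) (hc : c ∈ 𝒞 (j * q)) :
    ∃ c' ∈ 𝒞' j, MRel 𝒞 q P P' Θ c' c := by
  classical
  haveI : Nonempty R' := ⟨0⟩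
  have hφadd : ∀ a b : R', φ (a + b) = φ a + φ b := fun a b => map_add φ a b
  have hleft : ∀ y : R', Function.invFun φ (φ y) = y := Function.leftInverse_invFun hv.inj
  have hrange : ∀ x : R, x ∈ 𝒜 0 → ∃ y ∈ 𝒜' 0, φ y = x := by
    intro x hx
    exact hv.exists_of_mem (j := 0) (by rwa [zero_mul])
  have hmem : ∀ h' : H', P (Θ h') c ∈ Set.range φ := by
    intro h'
    obtain ⟨y, -, hy⟩ := hrange _ (hP.val0 (Θ h') c)
    exact ⟨y, hy⟩
  let lam : H' →+ R' :=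
    { toFun := fun h' => Function.invFun φ (P (Θ h') c)
      map_zero' := by
        rw [map_zero, map_zero, AddMonoidHom.zero_apply, ← map_zero φ, hleft]
      map_add' := fun a b => by
        rw [map_add, map_add, AddMonoidHom.add_apply,
          invFun_add_of_mem_range φ hφadd hv.inj (hmem a) (hmem b)] }
  have hlam : ∀ h', lam h' = Function.invFun φ (P (Θ h') c) := fun _ => rfl
  have hφlam : ∀ h', φ (lam h') = P (Θ h') c := by
    intro h'
    obtain ⟨y, hy⟩ := hmem h'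
    rw [hlam, ← hy, hleft]
  have hlam0 : ∀ h', lam h' ∈ 𝒜' 0 := by
    intro h'
    obtain ⟨y, hy0, hy⟩ := hrange _ (hP.val0 (Θ h') c)
    rw [hlam, ← hy, hleft]
    exact hy0
  have hlamlin : ∀ a ∈ 𝒜' 0, ∀ h', lam (a • h') = a * lam h' := by
    intro a ha h'
    apply hv.inj
    have ha' : φ a ∈ 𝒜 0 := by
      have := hv.map_mem ha
      rwa [zero_mul] at this
    rw [map_mul, hφlam, hφlam, map_smulₛₗ Θ, hP.lin0 _ ha']
  obtain ⟨c', hc', hcl⟩ := hP'.exists_repr h0' j (hfin' j) lam hlam0 hlamlin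
  refine ⟨c', hc', verP_of_mem_dvd q 𝒞 hc (dvd_mul_left _ _), ?_⟩
  intro h'
  induction h' using DirectSum.Decomposition.inductionOn 𝓗' with
  | zero => rw [map_zero, map_zero, map_zero, AddMonoidHom.zero_apply, AddMonoidHom.zero_apply,
      map_zero]
  | @homogeneous l h' =>
    have hΘh : Θ (h' : H') ∈ 𝓗 (l * q) := by
      rw [← hΘ l]
      exact ⟨h', h'.2, rfl⟩
    by_cases hl : l = -j
    · subst hl
      rw [hcl _ h'.2, hφlam]
    · rw [hP.deg (l * q) (j * q) (fun h => hl (by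
        have h5 : (l + j) * (q : ℤ) = 0 := by rw [add_mul]; exact h
        rcases mul_eq_zero.1 h5 with h6 | h6
        · omega
        · exact absurd h6 hv.q_ne_zero)) _ hΘh c hc,
        hP'.deg l j (fun h => hl (by omega)) _ h'.2 c' hc', map_zero]
  | add a b ha hb => rw [map_add, map_add, map_add, AddMonoidHom.add_apply,
      AddMonoidHom.add_apply, map_add, ha, hb]

include hv hP hP' hΘ hΘinj h0 hfin h0' hfin' in
/-- **comparison of Matlis duals along a Veronese inclusion** -/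
theorem exists_semilinear_of_mpair :
    ∃ g : C' →ₛₗ[φ] C, Function.Injective g ∧
      ∀ j : ℤ, (𝒞' j).map (g : C' →+ C) = 𝒞 (j * q) := by
  choose F hF using mrel_exists hv hP hP' Θ hΘinj hΘ h0 hfin
  have huniq : ∀ (c' : C') (c : C), MRel 𝒞 q P P' Θ c' c → c = F c' :=
    fun c' c hc => mrel_unique hP Θ hΘ hc (hF c')
  let g : C' →ₛₗ[φ] C :=
    { toFun := F
      map_add' := fun a b => (huniq _ _ (mrel_add Θ (hF a) (hF b))).symm
      map_smul' := fun r' c' => (huniq _ _ (mrel_smul hv hP hP' Θ (hF c') r')).symm }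
  have hg : ∀ c', g c' = F c' := fun _ => rfl
  refine ⟨g, ?_, ?_⟩
  · rw [injective_iff_map_eq_zero]
    intro c' hc'
    rw [hg] at hc'
    apply hP'.eq_zero_of_forall
    intro i h' _
    apply hv.inj
    rw [map_zero, ← (hF c').2 h', hc', map_zero]
  · intro j
    ext c
    constructor
    · rintro ⟨c', hc', rfl⟩
      obtain ⟨x, hx, hxr⟩ := mrel_exists_homog hv hP hP' Θ hΘinj hΘ h0 hfin j c' hc'
      change F c' ∈ 𝒞 (j * q)
      rw [← huniq c' x hxr]
      exact hx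
    · intro hc
      obtain ⟨c', hc', hr⟩ := mrel_exists_preimage hv hP hP' Θ hΘ h0' hfin' j c hc
      exact ⟨c', hc', (huniq c' c hr).symm⟩

end Groth.Agent.H98.Ver
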