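import Groth.Agent.H98.Ver.GorDown3
import Groth.Agent.H98.Ver.HullVer
import Groth.Agent.H98.Ver.Adj
import Groth.Agent.H98.Ver.MPairVer
import Groth.Agent.H98.LCRes.TopLC
import Groth.Agent.H98.GrStar.TopDeg

set_option autoImplicit false
set_option linter.unusedSectionVars false
set_option linter.style.haveILetI false
universe u

/-!
# Goto–Watanabe: if a Veronese subring of a standard graded Cohen–Macaulay ring of dimension `≥ 2`
is Gorenstein then so is the ring, and `q ∣ a(R)`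
-/

namespace Groth.Agent.H98.Ver

open DirectSum Groth.Agent.H98.GrStar Groth.Agent.H98.Canon Groth.Agent.H98.Bass0
  Groth.Agent.H98.GrHt Groth.Agent.H85.GrLCBridge

variable {R : Type u} [CommRing R] {𝒜 : ℤ → AddSubgroup R} [GradedRing 𝒜]
variable {R' : Type u} [CommRing R'] {𝒜' : ℤ → AddSubgroup R'} [GradedRing 𝒜']
variable {φ : R' →+* R} {q : ℕ}

theorem isGorensteinRing_of_ver_gorenstein [LocCoh.IsCohenMacaulayRing R]
    [LocCoh.IsGorensteinRing R'] (hv : IsVer 𝒜 𝒜' φ q)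
    (hpos : ∀ n : ℤ, n < 0 → 𝒜 n = ⊥) (h0 : IsField (GrLC.deg0 𝒜))
    (m : HomogeneousIdeal 𝒜) (hm : GrLC.IsStarLocal 𝒜 m)
    (hmsp : m.toIdeal = Ideal.span (⋃ n ∈ Set.Ioi (0 : ℤ), (𝒜 n : Set R)))
    (hstd : Ideal.span (⋃ n ∈ Set.Ioi (0 : ℤ), (𝒜 n : Set R)) =
      Ideal.span ((𝒜 1 : AddSubgroup R) : Set R))
    (n : ℕ) (hn : ringKrullDim R = n) (h2 : 2 ≤ n) (I : GrLC.StarInjRes 𝒜 𝒜) :
    LocCoh.IsGorensteinRing R ∧ ∃ a : ℤ,
      GrLC.endDeg (I.Hgr m n) = ((a : WithTop ℤ) : WithBot (WithTop ℤ)) ∧ (q : ℤ) ∣ a := by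
  classical
  haveI : IsNoetherianRing R := inferInstance
  haveI : IsNoetherianRing R' := isNoetherianRing hv
  have hmne : m.toIdeal ≠ ⊤ := ne_top_of_isStarLocal 𝒜 hm
  haveI : Nontrivial R := by
    by_contra hnt
    rw [not_nontrivial_iff_subsingleton] at hnt
    exact hmne (Subsingleton.elim _ _)
  haveI : Nontrivial R' := nontrivial' hv
  haveI hmax : m.toIdeal.IsMaximal := isMaximal_of_isStarLocal 𝒜 hpos hm
  have hpe := hpos_elt 𝒜 hpos
  have hpos'' := hpos' hv hpos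
  have h0' := isField_deg0' hv h0
  let m' : HomogeneousIdeal 𝒜' := irrH 𝒜'
  have hm' : GrLC.IsStarLocal 𝒜' m' := isStarLocal_irrH 𝒜' hpos'' h0'
  have hm'sp : m'.toIdeal = Ideal.span (⋃ j ∈ Set.Ioi (0 : ℤ), (𝒜' j : Set R')) := rfl
  haveI hmax' : m'.toIdeal.IsMaximal := irrI_isMaximal 𝒜' hpos'' h0'
  have hle := map_irrel_le hv m hmsp m' hm'sp
  have hpow := exists_pow_irrel_le hv m hmsp m' hm'sp
  -- the hull of `R/m` and the hull structure on its Veronese
  obtain ⟨E, e, he⟩ := exists_isStarInjHull 𝒜 (quotIdealGMod 𝒜 m).gr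
  have hess := he.toIsStarEss
  have hPerf : IsPerf 𝒜 E.gr := isPerf_hull 𝒜 hpe hmsp E.gr e he
  obtain ⟨e', he', -⟩ := exists_isStarInjHull_ver hv hpos h0 hmsp m' hm'sp E.gr e he
  -- the top local cohomology of the Veronese subring
  have hht' : m'.toIdeal.height = n := by
    have h1 := height_eq_ringKrullDim_of_isStarLocal 𝒜' hpos'' hm'
    rw [ringKrullDim_eq hv, hn] at h1
    exact_mod_cast h1
  let I' : GrLC.StarInjRes 𝒜' 𝒜' := res 𝒜' 𝒜'
  obtain ⟨g', φ₀, hφ₀⟩ := exists_top_H_equiv R' 𝒜' m' hm' n hht' I' _ (verGr hv E.gr) e' he'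
  obtain ⟨Θ, hΘinj, hΘ⟩ := exists_semilinear_self hv I I' m m' hle hpow n
  letI decH : DirectSum.Decomposition (I.Hgr m n) :=
    (Hgr_isInternal 𝒜 𝒜 I m n).chooseDecomposition
  letI decH' : DirectSum.Decomposition (I'.Hgr m' n) :=
    (Hgr_isInternal 𝒜' 𝒜' I' m' n).chooseDecomposition
  haveI : SetLike.GradedSMul 𝒜 (I.Hgr m n) := ⟨fun {d k r z} hr hz => by
    have := smul_mem_Hgr I m hr n z hz
    rwa [← vadd_eq_add] at this⟩
  haveI : SetLike.GradedSMul 𝒜' (I'.Hgr m' n) := ⟨fun {d k r z} hr hz => by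
    have := smul_mem_Hgr I' m' hr n z hz
    rwa [← vadd_eq_add] at this⟩
  set b : ℤ := -g' * q with hb
  have hbdvd : (q : ℤ) ∣ b := Dvd.intro_left _ rfl
  -- the coordinates of `φ₀`
  have hφ₀mem : ∀ (i : ℤ) (y : I'.H m' n), y ∈ I'.Hgr m' n i →
      ((φ₀ y : ↥(verSub hv E.gr)) : E.carrier) ∈ E.gr ((i + g') * q) := fun i y hy => hφ₀ i y hy
  have hΘmem : ∀ (l : ℤ) (y : I'.H m' n), y ∈ I'.Hgr m' n l → Θ y ∈ I.Hgr m n (l * q) := by
    intro l y hy
    rw [← hΘ l]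
    exact ⟨y, hy, rfl⟩
  have hrange : ∀ (l : ℤ) (x : I.H m n), x ∈ I.Hgr m n (l * q) →
      ∃ y ∈ I'.Hgr m' n l, Θ y = x := by
    intro l x hx
    rw [← hΘ l] at hx
    obtain ⟨y, hy, h⟩ := hx
    exact ⟨y, hy, h⟩
  haveI : Nonempty (I'.H m' n) := ⟨0⟩
  have hΘadd : ∀ x y : I'.H m' n, Θ (x + y) = Θ x + Θ y := fun x y => map_add Θ x y
  have hleft : ∀ y : I'.H m' n, Function.invFun Θ (Θ y) = y := Function.leftInverse_invFun hΘinj
  have hgmem : ∀ h : I.H m n, GrStar.gproj (I.Hgr m n) b h ∈ Set.range Θ := by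
    intro h
    obtain ⟨y, -, hy⟩ := hrange (-g') _ (GrStar.gproj_mem (I.Hgr m n) b h)
    exact ⟨y, hy⟩
  -- the functional
  let Λ : I.H m n →+ E.carrier :=
    { toFun := fun h =>
        ((φ₀ (Function.invFun Θ (GrStar.gproj (I.Hgr m n) b h)) : ↥(verSub hv E.gr)) : E.carrier)
      map_zero' := by
        rw [map_zero, ← map_zero Θ, hleft, map_zero]
        rfl
      map_add' := fun x y => by
        rw [map_add, invFun_add_of_mem_range Θ hΘadd hΘinj (hgmem x) (hgmem y), map_add]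
        rfl }
  have hΛdef : ∀ h, Λ h =
      ((φ₀ (Function.invFun Θ (GrStar.gproj (I.Hgr m n) b h)) : ↥(verSub hv E.gr)) : E.carrier) :=
    fun _ => rfl
  have hΛΘ : ∀ y ∈ I'.Hgr m' n (-g'), Λ (Θ y) = ((φ₀ y : ↥(verSub hv E.gr)) : E.carrier) := by
    intro y hy
    rw [hΛdef, GrStar.gproj_apply, DirectSum.decompose_of_mem_same (I.Hgr m n) (hΘmem _ y hy),
      hleft]
  have hΛ0 : ∀ h, Λ h ∈ E.gr 0 := by
    intro h
    obtain ⟨y, hy, hyh⟩ := hrange (-g') _ (GrStar.gproj_mem (I.Hgr m n) b h)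
    rw [hΛdef, ← hyh, hleft]
    have := hφ₀mem _ y hy
    rwa [neg_add_cancel, zero_mul] at this
  have hΛne : ∀ j : ℤ, j ≠ - -b → ∀ h ∈ I.Hgr m n j, Λ h = 0 := by
    intro j hj h hh
    rw [neg_neg] at hj
    rw [hΛdef, GrStar.gproj_apply, DirectSum.decompose_of_mem_ne (I.Hgr m n) hh hj]
    have h1 : Function.invFun Θ (0 : I.H m n) = 0 := by
      conv_lhs => rw [← map_zero Θ]
      exact hleft 0
    rw [h1, map_zero]
    rfl
  have hΛlin : ∀ c ∈ 𝒜 0, ∀ h, Λ (c • h) = c • Λ h := by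
    intro c hc h
    obtain ⟨c', hc', rfl⟩ := hv.exists_of_mem (j := 0) (by rwa [zero_mul])
    obtain ⟨y, hy, hyh⟩ := hrange (-g') _ (GrStar.gproj_mem (I.Hgr m n) b h)
    have h1 : GrStar.gproj (I.Hgr m n) b (φ c' • h) = φ c' • GrStar.gproj (I.Hgr m n) b h := by
      rw [GrStar.gproj_apply, GrStar.gproj_apply, decompose_smul_of_mem (I.Hgr m n) hc, _root_.sub_zero]
    rw [hΛdef, hΛdef, h1, ← hyh, ← map_smulₛₗ Θ, hleft, hleft, map_smul]
    rfl
  obtain ⟨u, hu, huΛ⟩ := hPerf.exists_hom_deg (I.Hgr m n) (-b) Λ hΛ0 hΛne hΛlin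
  -- `u ∘ Θ = φ₀`
  have hkey : ∀ y : I'.H m' n, u (Θ y) = ((φ₀ y : ↥(verSub hv E.gr)) : E.carrier) := by
    intro y
    induction y using DirectSum.Decomposition.inductionOn (I'.Hgr m' n) with
    | zero =>
      rw [map_zero, map_zero, map_zero]
      rfl
    | @homogeneous i y =>
      have hdeg : (i + g') * (q : ℤ) = i * q + -b := by rw [hb]; ring
      have h1 : u (Θ (y : I'.H m' n)) ∈ E.gr ((i + g') * q) := by
        rw [hdeg]
        exact hu _ _ (hΘmem i _ y.2)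
      have h2 := hφ₀mem i _ y.2
      apply hPerf.eq_of_pair
      intro r
      induction r using DirectSum.Decomposition.inductionOn 𝒜 with
      | zero => rw [zero_smul, zero_smul]
      | @homogeneous l r =>
        by_cases hl : l + (i + g') * (q : ℤ) = 0
        · have hl' : l = (-g' - i) * (q : ℤ) := by linear_combination hl
          have hrmem : (r : R) ∈ 𝒜 ((-g' - i) * q) := hl' ▸ r.2
          obtain ⟨r', hr', hrr'⟩ := hv.exists_of_mem hrmem
          have hr'y : r' • (y : I'.H m' n) ∈ I'.Hgr m' n (-g') := by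
            have := SetLike.GradedSMul.smul_mem (A := 𝒜') (B := I'.Hgr m' n) hr' y.2
            rw [vadd_eq_add] at this
            have h3 : -g' - i + i = -g' := by ring
            rwa [h3] at this
          have h4 : (r : R) • ((φ₀ (y : I'.H m' n) : ↥(verSub hv E.gr)) : E.carrier) ∈ E.gr 0 := by
            have := SetLike.GradedSMul.smul_mem (A := 𝒜) (B := E.gr) r.2 h2
            rwa [vadd_eq_add, hl] at this
          rw [huΛ, gp0_of_mem_zero E.gr h4, ← hrr', ← map_smulₛₗ Θ, hΛΘ _ hr'y, map_smul]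
          rfl
        · have h5 : (r : R) • u (Θ (y : I'.H m' n)) ∈ E.gr (l + (i + g') * q) := by
            have := SetLike.GradedSMul.smul_mem (A := 𝒜) (B := E.gr) r.2 h1
            rwa [vadd_eq_add] at this
          have h6 : (r : R) • ((φ₀ (y : I'.H m' n) : ↥(verSub hv E.gr)) : E.carrier) ∈
              E.gr (l + (i + g') * q) := by
            have := SetLike.GradedSMul.smul_mem (A := 𝒜) (B := E.gr) r.2 h2
            rwa [vadd_eq_add] at this
          rw [gp0_of_mem_ne E.gr hl h5, gp0_of_mem_ne E.gr hl h6]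
      | add r s hr hs => rw [add_smul, add_smul, map_add, map_add, hr, hs]
    | add x y hx hy => rw [map_add, map_add, map_add, hx, hy, Submodule.coe_add]
  -- the Veronese part
  have hφ₀symm : ∀ (l : ℤ) (x : ↥(verSub hv E.gr)), x ∈ verGr hv E.gr l →
      φ₀.symm x ∈ I'.Hgr m' n (l - g') := by
    intro l x hx
    exact symm_mem_of_shift (I'.Hgr m' n) (verGr hv E.gr) φ₀.toAddEquiv g'
      (fun i y hy => by rw [add_comm]; exact hφ₀ i y hy) l x hx
  have hU1a : ∀ j : ℤ, (q : ℤ) ∣ j → ∀ x ∈ E.gr (j + -b), ∃ h ∈ I.Hgr m n j, u h = x := by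
    rintro j ⟨j₀, rfl⟩ x hx
    have hx' : x ∈ E.gr ((j₀ + g') * q) := by
      have h1 : (q : ℤ) * j₀ + -b = (j₀ + g') * q := by rw [hb]; ring
      rwa [h1] at hx
    let x' : ↥(verSub hv E.gr) := ⟨x, mem_verSub_of_mem hv E.gr hx'⟩
    have hx'mem : x' ∈ verGr hv E.gr (j₀ + g') := hx'
    have hy := hφ₀symm _ x' hx'mem
    rw [add_sub_cancel_right] at hy
    refine ⟨Θ (φ₀.symm x'), ?_, ?_⟩
    · have := hΘmem j₀ _ hy
      rwa [mul_comm] at this
    · rw [hkey, LinearEquiv.apply_symm_apply]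
  have hU1b : ∀ j : ℤ, (q : ℤ) ∣ j → ∀ h ∈ I.Hgr m n j, u h = 0 → h = 0 := by
    rintro j ⟨j₀, rfl⟩ h hh huh
    rw [mul_comm] at hh
    obtain ⟨y, -, rfl⟩ := hrange j₀ h hh
    rw [hkey] at huh
    have h1 : φ₀ y = 0 := Subtype.ext huh
    have h2 : y = 0 := by
      have := congrArg φ₀.symm h1
      rwa [LinearEquiv.symm_apply_apply, map_zero] at this
    rw [h2, map_zero]
  -- depth vanishing and `H = m H`
  have hlow : ∀ j, j < n → Subsingleton (I.H m j) := fun j hj =>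
    Groth.Agent.H85.GrLCBase.subsingleton_H_of_cm 𝒜 m hm n hn I j hj
  have hhigh : ∀ i, n < i → Subsingleton (I.H m i) := fun i hi =>
    H_subsingleton_of_gt 𝒜 n hn I i hi
  have hH0 := hlow 0 (by omega)
  have hH1 := hlow 1 (by omega)
  have htop : m.toIdeal • (⊤ : Submodule R (I.H m n)) = ⊤ :=
    smul_top_eq_top_of_locCoh I m n
      (Groth.Agent.H98.LCRes.smul_top_eq_top_of_dim_le m.toIdeal n (by omega) (le_of_eq hn))
  have hΓ : ∀ x : R, (∃ N : ℕ, ∀ r ∈ m.toIdeal ^ N, r * x = 0) → x = 0 := by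
    rintro x ⟨N, hN⟩
    exact eq_zero_of_pow_mul_eq_zero I m hH0 x N hN
  obtain ⟨co, hco0, hco, hcolin⟩ := exists_coord 𝒜 hpe hmsp E.gr e hess
  have husurj : Function.Surjective u :=
    surjective_of_ver 𝒜 hpos h0 hm hmsp hstd E.gr e he hΓ (I.Hgr m n) q hv.pos b hbdvd u hU1a
  have huinj : Function.Injective u :=
    injective_of_ver 𝒜 hpos h0 hm hmsp hstd E.gr e he (I.Hgr m n) co hco0 hco hcolin b u hu q
      hv.pos hU1a hU1b I hH0 hH1 htop husurj
  let ue : I.H m n ≃ₗ[R] E.carrier := LinearEquiv.ofBijective u ⟨huinj, husurj⟩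
  have hΨ : ∀ k x, x ∈ E.gr k → ue.symm x ∈ I.Hgr m n (k + b) := by
    intro k x hx
    have := symm_mem_of_shift (I.Hgr m n) E.gr ue.toAddEquiv (-b)
      (fun i y hy => by rw [add_comm]; exact hu i y hy) k x hx
    rwa [sub_neg_eq_add] at this
  refine ⟨isGorensteinRing_of_top_equiv 𝒜 E.gr hm n I hlow hhigh he.starInj b ue.symm hΨ, b,
    endDeg_eq_of_hull_equiv 𝒜 hpe hm hmsp E.gr e hess I n b ue.symm hΨ, hbdvd⟩

end Groth.Agent.H98.Ver
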