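import Groth.Agent.H98.Ver.Basic
import Mathlib.LinearAlgebra.Basis.VectorSpace

set_option autoImplicit false
set_option linter.unusedSectionVars false
set_option linter.style.haveILetI false
universe u

/-!
# Graded modules with perfect pairings into their degree-zero part are *injective

`IsPerf ℬ 𝒱`: for every `n` the pairing `S_n × V_{-n} → V_0`, `(r, x) ↦ r x`, is perfect
(`V_{-n} ≅ Hom_{S_0}(S_n, V_0)`).  Over a graded ring with `S_0` a field this forces `V` to be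
*injective (`IsPerf.isStarInj`): `Hom^{gr}_S(B, V) ≅ Hom_{S_0}(B_0, V_0)`.
-/

namespace Groth.Agent.H98.Ver

open DirectSum Groth.Agent.H98.GrStar

variable {S : Type u} [CommRing S] (ℬ : ℤ → AddSubgroup S) [GradedRing ℬ]
variable {V : Type u} [AddCommGroup V] [Module S V] (𝒱 : ℤ → AddSubgroup V)
  [DirectSum.Decomposition 𝒱] [SetLike.GradedSMul ℬ 𝒱]

/-- the pairings `S_n × V_{-n} → V_0` are perfect -/
structure IsPerf : Prop where
  nondeg : ∀ (n : ℤ) (x : V), x ∈ 𝒱 (-n) → (∀ r ∈ ℬ n, r • x = 0) → x = 0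
  repr : ∀ (n : ℤ) (lam : S →+ V), (∀ r ∈ ℬ n, lam r ∈ 𝒱 0) →
    (∀ c ∈ ℬ 0, ∀ r ∈ ℬ n, lam (c * r) = c • lam r) → ∃ x ∈ 𝒱 (-n), ∀ r ∈ ℬ n, r • x = lam r

section GP0

variable {B : Type u} [AddCommGroup B] [Module S B] (ℬB : ℤ → AddSubgroup B)
  [DirectSum.Decomposition ℬB] [SetLike.GradedSMul ℬ ℬB]

/-- the projection onto the degree-zero component -/
noncomputable def gp0 : B →+ B where
  toFun x := (DirectSum.decompose ℬB x 0 : B)
  map_zero' := by rw [DirectSum.decompose_zero, DirectSum.zero_apply, ZeroMemClass.coe_zero]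
  map_add' x y := by rw [DirectSum.decompose_add, DirectSum.add_apply, AddSubgroup.coe_add]

theorem gp0_apply (x : B) : gp0 ℬB x = (DirectSum.decompose ℬB x 0 : B) := rfl

theorem gp0_mem (x : B) : gp0 ℬB x ∈ ℬB 0 := SetLike.coe_mem _

theorem gp0_of_mem_zero {x : B} (hx : x ∈ ℬB 0) : gp0 ℬB x = x := by
  rw [gp0_apply, DirectSum.decompose_of_mem_same ℬB hx]

theorem gp0_of_mem_ne {j : ℤ} (hj : j ≠ 0) {x : B} (hx : x ∈ ℬB j) : gp0 ℬB x = 0 := by
  rw [gp0_apply, DirectSum.decompose_of_mem_ne ℬB hx hj]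

theorem gp0_smul_of_mem_zero {c : S} (hc : c ∈ ℬ 0) (x : B) : gp0 ℬB (c • x) = c • gp0 ℬB x := by
  rw [gp0_apply, gp0_apply, decompose_smul_of_mem ℬB hc, sub_zero]

theorem gp0_smul_of_mem {i : ℤ} {r : S} (hr : r ∈ ℬ i) (x : B) :
    gp0 ℬB (r • x) = r • (DirectSum.decompose ℬB x (-i) : B) := by
  rw [gp0_apply, decompose_smul_of_mem ℬB hr, zero_sub]

end GP0

namespace IsPerf

variable {ℬ 𝒱} (hP : IsPerf ℬ 𝒱)
include hP

/-- global nondegeneracy of the pairing `(r, x) ↦ (r x)_0` -/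
theorem eq_zero_of_pair (x : V) (h : ∀ r : S, gp0 𝒱 (r • x) = 0) : x = 0 := by
  apply eq_zero_of_decompose_eq_zero 𝒱
  intro j
  apply hP.nondeg (-j) _ (by rw [neg_neg]; exact SetLike.coe_mem _)
  intro r hr
  have := gp0_smul_of_mem (ℬ := ℬ) 𝒱 hr x
  rw [neg_neg] at this
  rw [← this]
  exact h r

theorem eq_of_pair (x y : V) (h : ∀ r : S, gp0 𝒱 (r • x) = gp0 𝒱 (r • y)) : x = y := by
  have : x - y = 0 := by
    apply hP.eq_zero_of_pair
    intro r
    rw [smul_sub, map_sub, h r, sub_self]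
  exact sub_eq_zero.1 this

variable {B : Type u} [AddCommGroup B] [Module S B] (ℬB : ℤ → AddSubgroup B)
  [DirectSum.Decomposition ℬB] [SetLike.GradedSMul ℬ ℬB]
variable (Λ : B →+ V) (hΛ0 : ∀ b, Λ b ∈ 𝒱 0) (hΛne : ∀ j : ℤ, j ≠ 0 → ∀ b ∈ ℬB j, Λ b = 0)
  (hΛlin : ∀ c ∈ ℬ 0, ∀ b, Λ (c • b) = c • Λ b)
include hΛ0 hΛne hΛlin

theorem exists_repr_homog (j : ℤ) (b : B) (hb : b ∈ ℬB j) :
    ∃ x ∈ 𝒱 j, ∀ r : S, gp0 𝒱 (r • x) = Λ (r • b) := by
  let lam : S →+ V :=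
    { toFun := fun r => Λ (r • b)
      map_zero' := by rw [zero_smul, map_zero]
      map_add' := fun r s => by rw [add_smul, map_add] }
  obtain ⟨x, hx, hxr⟩ := hP.repr (-j) lam (fun r _ => hΛ0 _)
    (fun c hc r _ => by
      change Λ ((c * r) • b) = c • Λ (r • b)
      rw [mul_smul, hΛlin c hc])
  rw [neg_neg] at hx
  refine ⟨x, hx, ?_⟩
  intro r
  induction r using DirectSum.Decomposition.inductionOn ℬ with
  | zero => rw [zero_smul, zero_smul, map_zero, map_zero]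
  | @homogeneous i r =>
    have hrx : (r : S) • x ∈ 𝒱 (i + j) := by
      have := SetLike.GradedSMul.smul_mem (A := ℬ) (B := 𝒱) r.2 hx
      rwa [vadd_eq_add] at this
    have hrb : (r : S) • b ∈ ℬB (i + j) := by
      have := SetLike.GradedSMul.smul_mem (A := ℬ) (B := ℬB) r.2 hb
      rwa [vadd_eq_add] at this
    by_cases hij : i = -j
    · have h0 : i + j = 0 := by rw [hij]; exact neg_add_cancel j
      rw [h0] at hrx
      rw [gp0_of_mem_zero 𝒱 hrx]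
      exact hxr r (hij ▸ r.2)
    · have h0 : i + j ≠ 0 := fun h => hij (eq_neg_of_add_eq_zero_left h)
      rw [gp0_of_mem_ne 𝒱 h0 hrx, hΛne (i + j) h0 _ hrb]
  | add a c ha hc => rw [add_smul, add_smul, map_add, map_add, ha, hc]

theorem exists_repr (b : B) : ∃ x : V, ∀ r : S, gp0 𝒱 (r • x) = Λ (r • b) := by
  induction b using DirectSum.Decomposition.inductionOn ℬB with
  | zero => exact ⟨0, fun r => by rw [smul_zero, smul_zero, map_zero, map_zero]⟩
  | @homogeneous j b =>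
    obtain ⟨x, _, hx⟩ := hP.exists_repr_homog ℬB Λ hΛ0 hΛne hΛlin j b b.2
    exact ⟨x, hx⟩
  | add a c ha hc =>
    obtain ⟨x, hx⟩ := ha
    obtain ⟨y, hy⟩ := hc
    exact ⟨x + y, fun r => by rw [smul_add, smul_add, map_add, map_add, hx, hy]⟩

/-- the adjunction `Hom^{gr}_S(B, V) ≅ Hom_{S_0}(B_0, V_0)`: existence -/
theorem exists_hom :
    ∃ h : B →ₗ[S] V, GrLC.IsGrHom ℬB 𝒱 h ∧ ∀ (b : B) (r : S), gp0 𝒱 (r • h b) = Λ (r • b) := by
  choose F hF using hP.exists_repr ℬB Λ hΛ0 hΛne hΛlin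
  have huniq : ∀ (b : B) (x : V), (∀ r : S, gp0 𝒱 (r • x) = Λ (r • b)) → x = F b := by
    intro b x hx
    apply hP.eq_of_pair
    intro r
    rw [hx, hF]
  let h : B →ₗ[S] V :=
    { toFun := F
      map_add' := by
        intro a b
        symm
        apply huniq
        intro r
        rw [smul_add, smul_add, map_add, map_add, hF, hF]
      map_smul' := by
        intro t b
        symm
        apply huniq
        intro r
        rw [RingHom.id_apply, ← mul_smul, hF, mul_smul] }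
  refine ⟨h, ?_, fun b r => hF b r⟩
  intro j b hb
  obtain ⟨x, hx, hxr⟩ := hP.exists_repr_homog ℬB Λ hΛ0 hΛne hΛlin j b hb
  have : x = F b := huniq b x hxr
  change F b ∈ 𝒱 j
  rw [← this]
  exact hx

end IsPerf

variable {ℬ 𝒱} in
/-- **perfect pairings force *injectivity** when the degree-zero ring is a field -/
theorem IsPerf.isStarInj (hP : IsPerf ℬ 𝒱) (hfield : IsField (GrLC.deg0 ℬ)) :
    GrLC.IsStarInj ℬ 𝒱 := by
  intro A B f hf hfinj g hg
  letI : Field (GrLC.deg0 ℬ) := hfield.toField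
  let fk : A.carrier →ₗ[GrLC.deg0 ℬ] B.carrier := f.restrictScalars (GrLC.deg0 ℬ)
  have hfk : LinearMap.ker fk = ⊥ := LinearMap.ker_eq_bot.mpr hfinj
  obtain ⟨ρ, hρ⟩ := LinearMap.exists_leftInverse_of_injective fk hfk
  have hρ' : ∀ a, ρ (f a) = a := fun a => by
    have := congrArg (fun F => F a) hρ
    simpa [fk] using this
  -- the functional on `B`
  let Λ : B.carrier →+ V :=
    ((g.toAddMonoidHom.comp (gp0 A.gr)).comp ρ.toAddMonoidHom).comp (gp0 B.gr)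
  have hΛ0 : ∀ b, Λ b ∈ 𝒱 0 := fun b => hg 0 _ (gp0_mem A.gr _)
  have hΛne : ∀ j : ℤ, j ≠ 0 → ∀ b ∈ B.gr j, Λ b = 0 := by
    intro j hj b hb
    change g (gp0 A.gr (ρ (gp0 B.gr b))) = 0
    rw [gp0_of_mem_ne B.gr hj hb, map_zero, map_zero, map_zero]
  have hΛlin : ∀ c ∈ ℬ 0, ∀ b, Λ (c • b) = c • Λ b := by
    intro c hc b
    change g (gp0 A.gr (ρ (gp0 B.gr (c • b)))) = c • g (gp0 A.gr (ρ (gp0 B.gr b)))
    rw [gp0_smul_of_mem_zero (ℬ := ℬ) B.gr hc]
    have h1 : ρ (c • gp0 B.gr b) = c • ρ (gp0 B.gr b) := ρ.map_smul (⟨c, hc⟩ : GrLC.deg0 ℬ) _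
    rw [h1, gp0_smul_of_mem_zero (ℬ := ℬ) A.gr hc, map_smul]
  obtain ⟨h, hh, hhΛ⟩ := hP.exists_hom B.gr Λ hΛ0 hΛne hΛlin
  refine ⟨h, hh, ?_⟩
  apply LinearMap.ext
  intro a
  apply hP.eq_of_pair
  intro r
  change gp0 𝒱 (r • h (f a)) = gp0 𝒱 (r • g a)
  rw [hhΛ]
  change g (gp0 A.gr (ρ (gp0 B.gr (r • f a)))) = _
  have h2 : gp0 B.gr (r • f a) = f (gp0 A.gr (r • a)) := by
    rw [← map_smul, gp0_apply, gp0_apply, decompose_grHom A.gr B.gr f hf]
  rw [h2, hρ', gp0_of_mem_zero A.gr (gp0_mem A.gr _), ← map_smul, gp0_apply, gp0_apply,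
    decompose_grHom A.gr 𝒱 g hg]

end Groth.Agent.H98.Ver
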