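import Groth.Agent.H98.Ver.Basic

set_option autoImplicit false
set_option linter.unusedSectionVars false
universe u

/-!
# The Veronese submodule of a graded module, as a graded module over the Veronese subring
-/

namespace Groth.Agent.H98.Ver

open DirectSum Groth.Agent.H98.GrStar

variable {R : Type u} [CommRing R] {𝒜 : ℤ → AddSubgroup R} [GradedRing 𝒜]
variable {R' : Type u} [CommRing R'] {𝒜' : ℤ → AddSubgroup R'} [GradedRing 𝒜']
variable {φ : R' →+* R} {q : ℕ}

/-- restriction of scalars along `φ` -/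
@[reducible] def modR' (φ : R' →+* R) (X : Type u) [AddCommGroup X] [Module R X] : Module R' X :=
  Module.compHom X φ

theorem modR'_smul (X : Type u) [AddCommGroup X] [Module R X] (c : R') (x : X) :
    (letI := modR' φ X; c • x) = φ c • x := rfl

section Sub

variable (hv : IsVer 𝒜 𝒜' φ q)
variable {X : Type u} [AddCommGroup X] [Module R X] (𝒳 : ℤ → AddSubgroup X)
  [DirectSum.Decomposition 𝒳] [SetLike.GradedSMul 𝒜 𝒳]

/-- the Veronese submodule `⊕_j X_{jq}`, an `R'`-submodule of `X` -/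
def verSub : @Submodule R' X _ _ (modR' φ X) :=
  letI := modR' φ X
  { carrier := {x | verP q 𝒳 x = x}
    add_mem' := fun {x y} hx hy => by
      change verP q 𝒳 (x + y) = x + y
      rw [map_add, hx, hy]
    zero_mem' := map_zero _
    smul_mem' := fun c x hx => by
      change verP q 𝒳 (φ c • x) = φ c • x
      rw [verP_smul_φ 𝒳 hv, hx] }

theorem mem_verSub {x : X} : x ∈ verSub hv 𝒳 ↔ verP q 𝒳 x = x := Iff.rfl

theorem mem_verSub_of_mem {j : ℤ} {x : X} (hx : x ∈ 𝒳 (j * q)) : x ∈ verSub hv 𝒳 :=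
  verP_of_mem_dvd q 𝒳 hx (dvd_mul_left _ _)

theorem verP_mem_verSub (x : X) : verP q 𝒳 x ∈ verSub hv 𝒳 := verP_verP q 𝒳 x

theorem coe_smul_verSub (c : R') (y : ↥(verSub hv 𝒳)) : ((c • y : ↥(verSub hv 𝒳)) : X) = φ c • (y : X) :=
  rfl

/-- the pieces of the Veronese submodule -/
def verGr (j : ℤ) : AddSubgroup ↥(verSub hv 𝒳) where
  carrier := {y | (y : X) ∈ 𝒳 (j * q)}
  add_mem' := fun {a b} ha hb => by
    change ((a + b : ↥(verSub hv 𝒳)) : X) ∈ 𝒳 (j * q)
    rw [Submodule.coe_add]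
    exact add_mem ha hb
  zero_mem' := zero_mem (𝒳 (j * q))
  neg_mem' := fun {a} ha => by
    change ((-a : ↥(verSub hv 𝒳)) : X) ∈ 𝒳 (j * q)
    rw [Submodule.coe_neg]
    exact neg_mem ha

theorem mem_verGr {j : ℤ} {y : ↥(verSub hv 𝒳)} : y ∈ verGr hv 𝒳 j ↔ (y : X) ∈ 𝒳 (j * q) := Iff.rfl

/-- the inclusion of a piece -/
def verGrInc (j : ℤ) : verGr hv 𝒳 j →+ 𝒳 (j * q) where
  toFun y := ⟨((y : ↥(verSub hv 𝒳)) : X), y.2⟩
  map_zero' := rfl
  map_add' _ _ := rfl

/-- auxiliary map to the decomposition of `X` -/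
noncomputable def verΦ : (⨁ j, verGr hv 𝒳 j) →+ ⨁ l, 𝒳 l :=
  DirectSum.toAddMonoid (fun j => (DirectSum.of (fun l => 𝒳 l) (j * q)).comp (verGrInc hv 𝒳 j))

theorem verΦ_of (j : ℤ) (y : verGr hv 𝒳 j) :
    verΦ hv 𝒳 (DirectSum.of _ j y) = DirectSum.of (fun l => 𝒳 l) (j * q) (verGrInc hv 𝒳 j y) := by
  rw [verΦ, DirectSum.toAddMonoid_of]
  rfl

theorem coe_verΦ (Y : ⨁ j, verGr hv 𝒳 j) :
    DirectSum.coeAddMonoidHom 𝒳 (verΦ hv 𝒳 Y) =
      ((DirectSum.coeAddMonoidHom (verGr hv 𝒳) Y : ↥(verSub hv 𝒳)) : X) := by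
  induction Y using DirectSum.induction_on with
  | zero => simp
  | of j y =>
    rw [verΦ_of, DirectSum.coeAddMonoidHom_of, DirectSum.coeAddMonoidHom_of]
    rfl
  | add a b ha hb => rw [map_add, map_add, ha, hb, map_add, Submodule.coe_add]

theorem verΦ_apply (Y : ⨁ j, verGr hv 𝒳 j) (j : ℤ) :
    ((verΦ hv 𝒳 Y (j * q) : 𝒳 (j * q)) : X) = (((Y j : verGr hv 𝒳 j) : ↥(verSub hv 𝒳)) : X) := by
  induction Y using DirectSum.induction_on with
  | zero => simp
  | of j' y =>
    rw [verΦ_of]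
    by_cases h : j' = j
    · subst h
      rw [DirectSum.of_eq_same, DirectSum.of_eq_same]
      rfl
    · have h' : j' * q ≠ j * q := fun h'' => h (hv.mul_q_injective h'')
      rw [DirectSum.of_eq_of_ne _ _ _ (Ne.symm h'), DirectSum.of_eq_of_ne _ _ _ (Ne.symm h)]
      rfl
  | add a b ha hb =>
    rw [map_add, DirectSum.add_apply, DirectSum.add_apply, AddSubgroup.coe_add, ha, hb,
      AddSubgroup.coe_add, Submodule.coe_add]

theorem verGr_isInternal : DirectSum.IsInternal (verGr hv 𝒳) := by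
  classical
  constructor
  · rw [injective_iff_map_eq_zero]
    intro Y hY
    have h1 : DirectSum.coeAddMonoidHom 𝒳 (verΦ hv 𝒳 Y) = 0 := by
      rw [coe_verΦ, hY]
      rfl
    have h2 : verΦ hv 𝒳 Y = 0 :=
      (DirectSum.Decomposition.isInternal 𝒳).injective (h1.trans (map_zero _).symm)
    apply DFinsupp.ext
    intro j
    apply Subtype.ext
    apply Subtype.ext
    rw [← verΦ_apply, h2]
    rfl
  · intro x
    let G : ℤ → ⨁ j, verGr hv 𝒳 j := fun l =>
      if h : (q : ℤ) ∣ l then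
        DirectSum.of (fun j => verGr hv 𝒳 j) (l / q)
          ⟨⟨(DirectSum.decompose 𝒳 (x : X) l : X), by
              apply mem_verSub_of_mem hv 𝒳 (j := l / q)
              rw [Int.ediv_mul_cancel h]
              exact SetLike.coe_mem _⟩, by
            change (DirectSum.decompose 𝒳 (x : X) l : X) ∈ 𝒳 (l / q * q)
            rw [Int.ediv_mul_cancel h]
            exact SetLike.coe_mem _⟩
      else 0
    have hG : ∀ l, ((DirectSum.coeAddMonoidHom (verGr hv 𝒳) (G l) : ↥(verSub hv 𝒳)) : X) =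
        (DirectSum.decompose 𝒳 (x : X) l : X) := by
      intro l
      by_cases h : (q : ℤ) ∣ l
      · simp only [G, dif_pos h, DirectSum.coeAddMonoidHom_of]
      · simp only [G, dif_neg h, map_zero, ZeroMemClass.coe_zero]
        exact (((verP_eq_self_iff q 𝒳 (x : X)).1 x.2) l h).symm
    refine ⟨∑ l ∈ (DirectSum.decompose 𝒳 (x : X)).support, G l, ?_⟩
    apply Subtype.ext
    rw [map_sum, AddSubmonoidClass.coe_finsetSum]
    simp only [hG]
    exact DirectSum.sum_support_decompose 𝒳 (x : X)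

noncomputable instance verGr_decomposition : DirectSum.Decomposition (verGr hv 𝒳) :=
  (verGr_isInternal hv 𝒳).chooseDecomposition

instance verGr_gradedSMul : SetLike.GradedSMul 𝒜' (verGr hv 𝒳) where
  smul_mem := by
    intro i j c y hc hy
    change φ c • ((y : ↥(verSub hv 𝒳)) : X) ∈ 𝒳 ((i + j) * q)
    have := SetLike.GradedSMul.smul_mem (A := 𝒜) (B := 𝒳) (hv.map_mem hc) hy
    rw [vadd_eq_add] at this
    rwa [add_mul]

end Sub

/-- the Veronese module of a bundled graded module -/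
noncomputable def verGMod (hv : IsVer 𝒜 𝒜' φ q) (X : GrLC.GMod.{u} 𝒜) : GrLC.GMod.{u} 𝒜' where
  carrier := ↥(verSub hv X.gr)
  gr := verGr hv X.gr
  dec := verGr_decomposition hv X.gr
  gsmul := verGr_gradedSMul hv X.gr

end Groth.Agent.H98.Ver
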