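import Groth.Agent.H98.Ver.Compare
import Groth.Agent.H98.Canon.TopDeg

set_option autoImplicit false
set_option linter.unusedSectionVars false
set_option linter.style.haveILetI false
universe u

/-!
# The top local cohomology of a Veronese subring as the Veronese of a shifted module

If `*H^n_m(R) ≅ E(a' q)` then `*H^n_{m'}(R') ≅ (ver E)(a')`.
-/

namespace Groth.Agent.H98.Ver

open DirectSum Groth.Agent.H98.GrStar Groth.Agent.H98.Canon

variable {R : Type u} [CommRing R] {𝒜 : ℤ → AddSubgroup R} [GradedRing 𝒜]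
variable {R' : Type u} [CommRing R'] {𝒜' : ℤ → AddSubgroup R'} [GradedRing 𝒜']
variable {φ : R' →+* R} {q : ℕ} (hv : IsVer 𝒜 𝒜' φ q)
variable [IsNoetherianRing R] [IsNoetherianRing R']
variable (I : GrLC.StarInjRes 𝒜 𝒜) (I' : GrLC.StarInjRes 𝒜' 𝒜')
variable (m : HomogeneousIdeal 𝒜) (m' : HomogeneousIdeal 𝒜')
  (hle : Ideal.map φ m'.toIdeal ≤ m.toIdeal)
  (hpow : ∃ N : ℕ, m.toIdeal ^ N ≤ Ideal.map φ m'.toIdeal)
variable {E' : Type u} [AddCommGroup E'] [Module R E'] (𝓔 : ℤ → AddSubgroup E')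
  [DirectSum.Decomposition 𝓔] [SetLike.GradedSMul 𝒜 𝓔]

include hv hle hpow in
/-- the comparison `*H^p_{m'}(R') → *H^p_m(R)` for the rings themselves -/
theorem exists_semilinear_self (p : ℕ) :
    ∃ Θ : I'.H m' p →ₛₗ[φ] I.H m p, Function.Injective Θ ∧
      ∀ j : ℤ, (I'.Hgr m' p j).map (Θ : I'.H m' p →+ I.H m p) = I.Hgr m p (j * q) :=
  exists_semilinear hv (φ.toSemilinearMap) hv.inj hv.deg I m m' hle hpow I' p

include hv hle hpow in
theorem exists_ver_top_equiv (n : ℕ) (a' : ℤ) (Ψ : E' ≃ₗ[R] I.H m n)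
    (hΨ : ∀ k x, x ∈ 𝓔 k → Ψ x ∈ I.Hgr m n (k + a' * q)) :
    ∃ Ψ' : ↥(verSub hv 𝓔) ≃ₗ[R'] I'.H m' n,
      ∀ k x, x ∈ verGr hv 𝓔 k → Ψ' x ∈ I'.Hgr m' n (k + a') := by
  classical
  obtain ⟨Θ, hΘinj, hΘ⟩ := exists_semilinear_self hv I I' m m' hle hpow n
  letI decH : DirectSum.Decomposition (I.Hgr m n) :=
    (Hgr_isInternal 𝒜 𝒜 I m n).chooseDecomposition
  letI decH' : DirectSum.Decomposition (I'.Hgr m' n) :=
    (Hgr_isInternal 𝒜' 𝒜' I' m' n).chooseDecomposition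
  have hΨsymm : ∀ (l : ℤ) (y : I.H m n), y ∈ I.Hgr m n l → Ψ.symm y ∈ 𝓔 (l - a' * q) := by
    intro l y hy
    exact symm_mem_of_shift 𝓔 (I.Hgr m n) Ψ.toAddEquiv (a' * q)
      (fun i x hx => by rw [add_comm]; exact hΨ i x hx) l y hy
  have hΘmem : ∀ (l : ℤ) (y : I'.H m' n), y ∈ I'.Hgr m' n l → Θ y ∈ I.Hgr m n (l * q) := by
    intro l y hy
    rw [← hΘ l]
    exact ⟨y, hy, rfl⟩
  have hΞhom : ∀ (l : ℤ) (y : I'.H m' n), y ∈ I'.Hgr m' n l →
      Ψ.symm (Θ y) ∈ 𝓔 ((-a' + l) * q) := by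
    intro l y hy
    have := hΨsymm _ _ (hΘmem l y hy)
    have h2 : l * q - a' * q = (-a' + l) * q := by ring
    rwa [h2] at this
  have hΞmem : ∀ y : I'.H m' n, verP q 𝓔 (Ψ.symm (Θ y)) = Ψ.symm (Θ y) := by
    intro y
    induction y using DirectSum.Decomposition.inductionOn (I'.Hgr m' n) with
    | zero => rw [map_zero, map_zero, map_zero]
    | @homogeneous l y =>
      exact verP_of_mem_dvd q 𝓔 (hΞhom l y y.2) (dvd_mul_left _ _)
    | add y z hy hz => rw [map_add, map_add, map_add, hy, hz]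
  let Ξ : I'.H m' n →ₗ[R'] ↥(verSub hv 𝓔) :=
    { toFun := fun y => ⟨Ψ.symm (Θ y), hΞmem y⟩
      map_add' := fun y z => Subtype.ext (by
        change Ψ.symm (Θ (y + z)) = Ψ.symm (Θ y) + Ψ.symm (Θ z)
        rw [map_add, map_add])
      map_smul' := fun c y => Subtype.ext (by
        change Ψ.symm (Θ (c • y)) = φ c • Ψ.symm (Θ y)
        rw [map_smulₛₗ, map_smul]) }
  have hΞinj : Function.Injective Ξ := by
    intro y z hyz
    have h1 : Ψ.symm (Θ y) = Ψ.symm (Θ z) := congrArg Subtype.val hyz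
    exact hΘinj (Ψ.symm.injective h1)
  have hΞsurj : Function.Surjective Ξ := by
    intro x
    let Ξ₀ : I'.H m' n →+ E' := (Ψ.symm : I.H m n →+ E').comp (Θ : I'.H m' n →+ I.H m n)
    have hmem : ∀ l : ℤ, (DirectSum.decompose 𝓔 (x : E') l : E') ∈ Ξ₀.range := by
      intro l
      by_cases hl : (q : ℤ) ∣ l
      · obtain ⟨l', rfl⟩ := hl
        have h1 : Ψ (DirectSum.decompose 𝓔 (x : E') ((q : ℤ) * l') : E') ∈
            I.Hgr m n ((l' + a') * q) := by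
          have := hΨ _ _ (SetLike.coe_mem (DirectSum.decompose 𝓔 (x : E') ((q : ℤ) * l')))
          have h2 : (q : ℤ) * l' + a' * q = (l' + a') * q := by ring
          rwa [h2] at this
        rw [← hΘ (l' + a')] at h1
        obtain ⟨y, _, hy⟩ := h1
        refine ⟨y, ?_⟩
        change Ψ.symm (Θ y) = _
        have hy' : Θ y = Ψ (DirectSum.decompose 𝓔 (x : E') ((q : ℤ) * l') : E') := hy
        rw [hy', LinearEquiv.symm_apply_apply]
      · rw [(verP_eq_self_iff q 𝓔 (x : E')).1 x.2 l hl]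
        exact zero_mem _
    have : (x : E') ∈ Ξ₀.range := by
      rw [← DirectSum.sum_support_decompose 𝓔 (x : E')]
      exact sum_mem (fun l _ => hmem l)
    obtain ⟨y, hy⟩ := this
    exact ⟨y, Subtype.ext hy⟩
  let Ξe : I'.H m' n ≃ₗ[R'] ↥(verSub hv 𝓔) := LinearEquiv.ofBijective Ξ ⟨hΞinj, hΞsurj⟩
  refine ⟨Ξe.symm, ?_⟩
  intro k x hx
  have := symm_mem_of_shift (I'.Hgr m' n) (verGr hv 𝓔) Ξe.toAddEquiv (-a')
    (fun i y hy => hΞhom i y hy) k x hx
  rw [sub_neg_eq_add] at this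
  exact this

end Groth.Agent.H98.Ver
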